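import Cfsg.Agent.JE.F2
import Cfsg.Agent.H16.J1

/-! Automorphisms of prime power order fixing an abelian Sylow subgroup pointwise. -/

set_option autoImplicit false

namespace Cfsg.Agent.AG

open Subgroup Cfsg.Agent.H11 Cfsg.Agent.H28 Matrix
open scoped MatrixGroups

theorem exists_fix {G : Type*} [Group G] [Finite G] {r : ℕ} [Fact r.Prime]
    (hz : Function.Injective (MulAut.conj : G →* MulAut G)) (R : Sylow r G) (hc : IsMulCommutative R)
    {α : MulAut G} (hα : IsPGroup r (zpowers α)) (hR : ∀ x ∈ (R : Subgroup G), α x = x)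
    {Q : Subgroup (MulAut G)} (hQ : IsPGroup r Q) (hQH : Q ≤ Inn G ⊔ zpowers α) :
    (∀ a ∈ Q, ∀ b ∈ Q, a * b = b * a) ∧
      ∃ R' : Subgroup G, Nat.card R' = Nat.card R ∧ ∀ θ ∈ Q, ∀ x ∈ R', θ x = x := by
  have h1 : ∀ x ∈ (R : Subgroup G), α * MulAut.conj x = MulAut.conj x * α := fun x hx => by
    ext y; simp [hR x hx]
  set R0 := (R : Subgroup G).map (MulAut.conj : G →* MulAut G) with hR0
  have h2 : R0 ⊔ zpowers α ≤ centralizer (R0 : Set (MulAut G)) := by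
    refine sup_le ?_ (zpowers_le.2 ?_)
    · rintro _ ⟨x, hx, rfl⟩ _ ⟨y, hy, rfl⟩
      rw [← map_mul, ← map_mul]
      exact congrArg _ (congrArg Subtype.val (hc.1.1 ⟨y, hy⟩ ⟨x, hx⟩))
    · rintro _ ⟨y, hy, rfl⟩
      exact (h1 y hy).symm
  have h3 : R0 ⊔ zpowers α ≤ centralizer (zpowers α : Set (MulAut G)) := by
    refine sup_le (le_centralizer_iff.1 (le_sup_right.trans h2)) (zpowers_le.2 ?_)
    rintro _ ⟨i, rfl⟩
    exact (Commute.zpow_left (Commute.refl α) i).eq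
  have h4 : ∀ a ∈ R0 ⊔ zpowers α, ∀ b ∈ R0 ⊔ zpowers α, a * b = b * a := fun a ha b hb =>
    (sup_le (le_centralizer_iff.1 h2) (le_centralizer_iff.1 h3) :
      R0 ⊔ zpowers α ≤ centralizer ((R0 ⊔ zpowers α : Subgroup _) : Set (MulAut G))) hb a ha
  have h5 : IsPGroup r (R0 ⊔ zpowers α : Subgroup (MulAut G)) :=
    IsPGroup.to_sup_of_normal_left' (R.isPGroup'.map _) hα
      ((le_sup_right.trans h2).trans (centralizer_le_normalizer _))
  have h6 : IsSylIn r (R0 ⊔ zpowers α) (Inn G ⊔ zpowers α) := by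
    refine ⟨sup_le_sup_right (map_le_range _ _) _, h5, fun T hT h h' => le_antisymm (fun q hq => ?_) h⟩
    have h7 : T.comap (MulAut.conj : G →* MulAut G) = R :=
      R.is_maximal' (hT.comap_of_injective _ hz) (map_le_iff_le_comap.1 (le_sup_left.trans h))
    have := h' hq
    rw [← SetLike.mem_coe, normal_mul] at this
    obtain ⟨_, ⟨x, rfl⟩, b, hb, rfl⟩ := this
    have h8 : MulAut.conj x ∈ T := (T.mul_mem_cancel_right (h (mem_sup_right hb))).1 hq
    exact mul_mem (mem_sup_left ⟨x, h7 ▸ h8, rfl⟩) (mem_sup_right hb)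
  obtain ⟨h, -, hh⟩ := h6.exists_cj_le hQ hQH
  rw [cj_le_iff] at hh
  refine ⟨fun a ha b hb => ?_, (R : Subgroup G).map (h⁻¹ : MulAut G).toMonoidHom,
    card_map_of_injective (h⁻¹ : MulAut G).injective, ?_⟩
  · have := h4 _ (hh a ha) _ (hh b hb)
    apply mul_left_cancel (a := h)
    simpa [← mul_assoc] using this
  · rintro θ hθ _ ⟨x, hx, rfl⟩
    have h9 := h4 _ (hh θ hθ) _ (mem_sup_left ⟨x, hx, rfl⟩)
    have h10 : (h * θ * h⁻¹) x = x := hz (by
      rw [← mul_inv_eq_iff_eq_mul] at h9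
      rw [← h9]; ext y; simp)
    apply h.injective
    simpa using h10

theorem pg_of_pow {G : Type*} [Group G] {p k : ℕ} (hp : p.Prime) {x : G} (h : x ^ p ^ k = 1) :
    IsPGroup p (zpowers x) := by
  obtain ⟨j, -, e⟩ := (Nat.dvd_prime_pow hp).1 (orderOf_dvd_of_pow_eq_one h)
  exact isPGroup_zpowers_of_orderOf e

variable {F : Type} [Field F] [Fintype F]

omit [Fintype F] in
theorem fix_range {σ : F ≃+* F} (ho : Odd (orderOf σ) ∨ (2 : F) = 0) {x : PSL(2, F)}
    (h : fPSL (Fin 2) F σ x = x) : x ∈ (H12.pslMap (Fin 2) (fixF σ).subtype).range := by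
  rcases ho with ho | ho
  · exact (JT.fPSL_fix ho).1 h
  obtain ⟨s, rfl⟩ := QuotientGroup.mk_surjective x
  rw [fPSL_mk σ (s' := Matrix.SpecialLinearGroup.map (σ : F →+* F) s) rfl, eq_comm, mk_eq_mk_PSL] at h
  obtain ⟨z, hz⟩ := h
  have h1 := congrArg Matrix.det hz
  rw [Matrix.det_smul, s.det_coe, Matrix.SpecialLinearGroup.det_coe, Fintype.card_fin, mul_one, sq] at h1
  have h3 : z = 1 := by
    rcases mul_self_eq_one_iff.1 h1.symm with e | e
    · exact e
    · rw [e]; linear_combination -ho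
  have h2 : ∀ i j, s.1 i j ∈ fixF σ := fun i j => by
    have := congrFun (congrFun hz i) j
    rw [h3, one_smul] at this
    exact this
  exact ⟨QuotientGroup.mk (⟨Matrix.of fun i j => ⟨_, h2 i j⟩, Subtype.ext (by
    simpa [Matrix.det_fin_two] using (Matrix.det_fin_two s.1).symm.trans s.2)⟩ : SL(2, fixF σ)), rfl⟩

theorem arith {r q N N0 : ℕ} (hr : r.Prime) (hq : 2 ≤ q) (h : Nat.gcd 2 (q ^ r - 1) * N = q ^ r * ((q ^ r) ^ 2 - 1))
    (h0 : Nat.gcd 2 (q - 1) * N0 = q * (q ^ 2 - 1)) (hN : r ∣ N) : N0 * r ∣ N := by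
  have e1 : Nat.gcd 2 (q ^ r - 1) = Nat.gcd 2 (q - 1) := by
    have h1 : 1 ≤ q ^ r := Nat.one_le_pow _ _ (by omega)
    have h2 : q ^ r % 2 = q % 2 := by
      rw [Nat.pow_mod]
      rcases Nat.mod_two_eq_zero_or_one q with e | e <;> simp [e, hr.ne_zero]
    rw [Nat.gcd_rec 2 (q ^ r - 1), Nat.gcd_rec 2 (q - 1)]
    congr 1
    omega
  have h2 : 1 ≤ q ^ 2 := Nat.one_le_pow _ _ (by omega)
  have e2 : (q ^ r) ^ 2 - 1 = (∑ i ∈ Finset.range r, (q ^ 2) ^ i) * (q ^ 2 - 1) := by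
    rw [geom_sum_mul_of_one_le h2, ← pow_mul, ← pow_mul, mul_comm]
  obtain ⟨s, rfl⟩ : ∃ s, r = s + 1 := ⟨r - 1, by have := hr.pos; omega⟩
  have e3 : N = N0 * (q ^ s * ∑ i ∈ Finset.range (s + 1), (q ^ 2) ^ i) := by
    refine Nat.eq_of_mul_eq_mul_left (Nat.gcd_pos_of_pos_left (q - 1) two_pos) ?_
    rw [← mul_assoc, h0, ← e1, h, e2]
    ring
  rw [e3]
  refine Nat.mul_dvd_mul_left _ ?_
  by_cases h3 : s + 1 ∣ q
  · exact (dvd_pow h3 (by have := hr.two_le; omega)).mul_right _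
  haveI := Fact.mk hr
  have h4 : s + 1 ∣ (q ^ (s + 1)) ^ 2 - 1 :=
    ((Nat.Prime.dvd_mul hr).1 (h ▸ hN.mul_left _)).resolve_left fun e => h3 (hr.dvd_of_dvd_pow e)
  refine Dvd.dvd.mul_left ?_ _
  rw [← ZMod.natCast_eq_zero_iff] at h4 ⊢
  rw [Nat.cast_sub (Nat.one_le_pow _ _ (by positivity)), Nat.cast_pow, Nat.cast_pow, ZMod.pow_card,
    Nat.cast_one, sub_eq_zero] at h4
  simp only [Nat.cast_sum, Nat.cast_pow, h4, one_pow, Finset.sum_const, Finset.card_range, nsmul_eq_mul, mul_one]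
  exact ZMod.natCast_self _

theorem not_fix {r : ℕ} [hr : Fact r.Prime] (R : Sylow r PSL(2, F)) (hd : r ∣ Nat.card PSL(2, F)) {σ : F ≃+* F}
    (hσ : orderOf σ = r) (ho : r ≠ 2 ∨ (2 : F) = 0) {R' : Subgroup PSL(2, F)} (hc : Nat.card R' = Nat.card R)
    (h : ∀ x ∈ R', fPSL (Fin 2) F σ x = x) : False := by
  letI := Fintype.ofFinite (fixF σ)
  have h1 : R' ≤ (H12.pslMap (Fin 2) (fixF σ).subtype).range := fun x hx =>
    fix_range (ho.imp_left fun e => hσ ▸ hr.out.odd_of_ne_two e) (h x hx)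
  have h2 := card_dvd_of_le h1
  rw [hc, ← Nat.card_congr (MonoidHom.ofInjective (H12.psl2_map_injective (fixF σ).subtype)).toEquiv] at h2
  have h3 := card_fixF_pow σ
  rw [hσ, Nat.card_eq_fintype_card, Nat.card_eq_fintype_card] at h3
  have h4 := arith hr.out Fintype.one_lt_card (H12.card_PSL2 h3.symm) (H12.card_PSL2 rfl) hd
  have h5 := (Nat.mul_dvd_mul_right h2 r).trans h4
  rw [← (R : Subgroup PSL(2, F)).card_mul_index, Nat.mul_dvd_mul_iff_left Nat.card_pos] at h5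
  exact R.not_dvd_index h5

omit [Fintype F] in
theorem mem_inn {g : GL (Fin 2) F} (h : IsSquare (g : Matrix (Fin 2) (Fin 2) F).det) :
    dPSL (Fin 2) F g ∈ Inn PSL(2, F) := by
  obtain ⟨u, hu⟩ := h
  have h0 : u ≠ 0 := fun e => g.det_ne_zero (by rw [hu, e, mul_zero])
  rw [inn_PSL_eq']
  refine ⟨GeneralLinearGroup.scalar _ (Units.mk0 u h0)⁻¹ * g, Units.ext ?_, by rw [map_mul, dPSL_scalar, one_mul]⟩
  rw [Matrix.det_fin_two] at hu
  simp [GeneralLinearGroup.scalar, Matrix.det_fin_two]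
  field_simp
  exact hu.trans (sq u).symm

theorem sq_mul {a b : F} (ha : ¬ IsSquare a) (hb : ¬ IsSquare b) : IsSquare (a * b) := by
  classical
  have h0 : a * b ≠ 0 := mul_ne_zero (fun e => ha (e ▸ IsSquare.zero)) fun e => hb (e ▸ IsSquare.zero)
  rw [← quadraticChar_one_iff_isSquare h0, map_mul, quadraticChar_neg_one_iff_not_isSquare.2 ha,
    quadraticChar_neg_one_iff_not_isSquare.2 hb]
  norm_num

theorem sq_mul_map (σ : F ≃+* F) (a : F) : IsSquare (a * σ a) := by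
  by_cases h : IsSquare a
  · exact h.mul (h.map σ)
  · exact sq_mul h fun e => h (by simpa using e.map σ.symm)

theorem psl_main (h8 : Fintype.card F % 8 = 0 ∨ Fintype.card F % 8 = 3 ∨ Fintype.card F % 8 = 5)
    {r : ℕ} [hr : Fact r.Prime] (R : Sylow r PSL(2, F)) (hc : IsMulCommutative R) (hd : r ∣ Nat.card PSL(2, F))
    {α : MulAut PSL(2, F)} {k : ℕ} (hα : orderOf α = r ^ k) (hR : ∀ x ∈ (R : Subgroup PSL(2, F)), α x = x) :
    α ∈ Inn PSL(2, F) := by
  have key := fun Q => exists_fix (Q := Q) GW.conj_injective_psl R hc (isPGroup_zpowers_of_orderOf hα) hR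
  obtain ⟨τ, t1, t2⟩ := exists_typ_PSL_two (F := F)
  have t3 : ∀ g, τ (dPSL _ F g) = 1 := fun g => (t1 ▸ ⟨g, rfl⟩ : _ ∈ τ.ker)
  have c2 : (2 : F) = 0 → ∀ g, dPSL (Fin 2) F g ∈ Inn PSL(2, F) := fun e g =>
    mem_inn (FiniteField.isSquare_of_char_two (ringChar.eq_iff.2 (by
      haveI := Fact.mk Nat.prime_two
      exact (CharP.charP_iff_prime_eq_zero Nat.prime_two).2 (by exact_mod_cast e))) _)
  by_cases h1 : τ α = 1
  · obtain ⟨g, rfl⟩ : α ∈ (dPSL (Fin 2) F).range := t1 ▸ h1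
    by_contra hn
    have h2 : (2 : F) ≠ 0 := fun e => hn (c2 e g)
    have h3 : ¬ IsSquare (g : Matrix (Fin 2) (Fin 2) F).det := fun e => hn (mem_inn e)
    by_cases h4 : r = 2
    · subst h4
      have h5 : ∀ g', dPSL (Fin 2) F g' ∈ Inn PSL(2, F) ⊔ zpowers (dPSL (Fin 2) F g) := fun g' => by
        by_cases e : IsSquare (g' : Matrix (Fin 2) (Fin 2) F).det
        · exact mem_sup_left (mem_inn e)
        · have := mem_inn (g := g' * g) (by rw [Units.val_mul, det_mul]; exact sq_mul e h3)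
          rw [map_mul] at this
          exact (mul_mem_cancel_right (mem_sup_right (mem_zpowers _))).1 (mem_sup_left this)
      let a : GL (Fin 2) F := H12.mkGL2 1 (-1) 1 1 (by rw [← one_add_one_eq_two] at h2; simpa using h2)
      let b : GL (Fin 2) F := H12.mkGL2 1 0 0 (-1) (by simp)
      have e1 : dPSL (Fin 2) F a ^ 2 ^ 2 = 1 := by
        rw [← map_pow, dPSL_eq_one_iff, mem_center_GL_iff']
        refine ⟨-4, ?_⟩
        ext i j
        fin_cases i <;> fin_cases j <;> simp [a, pow_succ, Matrix.mul_apply, Fin.sum_univ_two] <;> norm_num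
      have e2 : b * b = 1 := by
        ext i j
        fin_cases i <;> fin_cases j <;> simp [b, Matrix.mul_apply, Fin.sum_univ_two]
      have e3 : dPSL (Fin 2) F b * dPSL (Fin 2) F a * dPSL (Fin 2) F b * dPSL (Fin 2) F a = 1 := by
        rw [← map_mul, ← map_mul, ← map_mul, dPSL_eq_one_iff, mem_center_GL_iff']
        refine ⟨2, ?_⟩
        ext i j
        fin_cases i <;> fin_cases j <;> simp [a, b, Matrix.mul_apply, Fin.sum_univ_two] <;> norm_num
      have e4 : dPSL (Fin 2) F b * dPSL (Fin 2) F b = 1 := by rw [← map_mul, e2, map_one]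
      have e5 : IsPGroup 2 (zpowers (dPSL (Fin 2) F a) ⊔ zpowers (dPSL (Fin 2) F b) : Subgroup _) := by
        refine IsPGroup.to_sup_of_normal_left' (pg_of_pow Nat.prime_two e1)
          (pg_of_pow (k := 1) Nat.prime_two (by rw [pow_one, sq, e4])) (zpowers_le.2 ?_)
        have e5 : dPSL (Fin 2) F b * dPSL (Fin 2) F a * (dPSL (Fin 2) F b)⁻¹ = (dPSL (Fin 2) F a)⁻¹ := by
          rw [inv_eq_of_mul_eq_one_right e4]
          exact eq_inv_of_mul_eq_one_left e3
        refine mem_normalizer_of_cj_le (cj_le_iff.2 ?_)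
        rintro _ ⟨i, rfl⟩
        rw [← conj_zpow, e5]
        exact zpow_mem (inv_mem (mem_zpowers _)) _
      have e6 := (key _ e5 (sup_le (zpowers_le.2 (h5 a)) (zpowers_le.2 (h5 b)))).1 _
        (mem_sup_right (mem_zpowers _)) _ (mem_sup_left (mem_zpowers _))
      rw [e6, mul_assoc _ _ (dPSL (Fin 2) F b), e4, mul_one, ← map_mul, dPSL_eq_one_iff, mem_center_GL_iff'] at e3
      obtain ⟨c, e7⟩ := e3
      have := congrFun (congrFun e7 1) 0
      simp [a, Matrix.mul_apply, Fin.sum_univ_two, one_add_one_eq_two, h2] at this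
    · have h5 : dPSL (Fin 2) F g ^ 2 ∈ Inn PSL(2, F) := by
        rw [← map_pow]
        exact mem_inn (by rw [Units.val_pow_eq_pow_val, det_pow, sq]; exact IsSquare.mul_self _)
      exact hn ((zpowers_le.2 h5) (mem_zpowers_pow_iff.2 (by
        rw [hα]; exact ((Nat.coprime_primes Nat.prime_two hr.out).2 (Ne.symm h4)).pow_right _)))
  exfalso
  obtain ⟨j, hj, e1⟩ := (Nat.dvd_prime_pow hr.out).1 (hα ▸ orderOf_map_dvd τ α)
  obtain ⟨j, rfl⟩ : ∃ i, j = i + 1 := ⟨j - 1, by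
    rcases j with _ | j
    · exact absurd (orderOf_eq_one_iff.1 e1) h1
    · rfl⟩
  obtain ⟨g, σ, e2⟩ := aut_PSL_two (α ^ r ^ j)
  have e3 : orderOf σ = r := by
    have := congrArg τ e2
    rw [map_mul, t3, t2, one_mul, map_pow] at this
    rw [← this, orderOf_pow, e1, Nat.gcd_eq_right (pow_dvd_pow _ (Nat.le_succ j)), pow_succ,
      Nat.mul_div_cancel_left _ (pow_pos hr.out.pos _)]
  have e4 : dPSL (Fin 2) F g * fPSL (Fin 2) F σ ∈ Inn PSL(2, F) ⊔ zpowers α :=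
    e2 ▸ mem_sup_right (pow_mem (mem_zpowers α) _)
  have fin : ∀ σ : F ≃+* F, orderOf σ = r → (r ≠ 2 ∨ (2 : F) = 0) →
      fPSL (Fin 2) F σ ∈ Inn PSL(2, F) ⊔ zpowers α → False := fun σ h1 h2 h3 => by
    obtain ⟨R', h4, h5⟩ := (key (zpowers (fPSL (Fin 2) F σ)) (isPGroup_zpowers_of_orderOf (k := 1)
      (by rw [orderOf_injective _ fPSL_injective, h1, pow_one])) (zpowers_le.2 h3)).2
    exact not_fix R hd h1 h2 h4 (h5 _ (mem_zpowers _))
  by_cases h2 : (2 : F) = 0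
  · exact fin σ e3 (Or.inr h2) ((mul_mem_cancel_left (mem_sup_left (c2 h2 g))).1 e4)
  by_cases h4 : r = 2
  · subst h4
    have h3 := card_fixF_pow σ
    rw [e3, Nat.card_eq_fintype_card (α := F)] at h3
    have h5 : Fintype.card F % 2 = 1 := FiniteField.odd_card_of_char_ne_two fun e => h2 (by
      haveI := ringChar.eq_iff.1 e
      exact_mod_cast CharP.cast_eq_zero F 2)
    generalize Nat.card (fixF σ) = q at h3
    have h6 : q ^ 2 % 8 = 0 ∨ q ^ 2 % 8 = 1 ∨ q ^ 2 % 8 = 4 := by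
      rw [Nat.pow_mod]
      have := Nat.mod_lt q (show 0 < 8 by norm_num)
      generalize q % 8 = m at this
      interval_cases m <;> simp
    omega
  refine fin (σ ^ 2) (by
    rw [orderOf_pow, e3, ((Nat.coprime_primes hr.out Nat.prime_two).2 h4).gcd_eq_one, Nat.div_one]) (Or.inl h4) ?_
  have e5 := mul_mem e4 e4
  rw [mul_assoc, ← mul_assoc (fPSL (Fin 2) F σ), fPSL_mul_dPSL, mul_assoc, ← map_mul, ← mul_assoc, ← map_mul,
    ← sq] at e5
  refine (mul_mem_cancel_left (mem_sup_left (mem_inn ?_))).1 e5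
  rw [Units.val_mul, det_mul, coe_fieldGL]
  have := sq_mul_map σ (g : Matrix (Fin 2) (Fin 2) F).det
  rwa [RingEquiv.map_det] at this

theorem inner_of_equiv {G H : Type*} [Group G] [Group H] (e : G ≃* H) {α : MulAut G}
    (h : MulAut.congr e α ∈ Inn H) : ∃ g : G, ∀ x : G, α x = g * x * g⁻¹ := by
  obtain ⟨g, hg⟩ := h
  refine ⟨e.symm g, fun x => e.injective ?_⟩
  have := DFunLike.congr_fun hg (e x)
  simpa using this.symm

theorem main {G : Type*} [Group G] [Finite G] (h : Cfsg.Spor.IsoJ1 G ∨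
      ∃ (F : Type) (_ : Field F) (_ : Fintype F), 3 < Fintype.card F ∧
        (Fintype.card F % 8 = 0 ∨ Fintype.card F % 8 = 3 ∨ Fintype.card F % 8 = 5) ∧ Nonempty (G ≃* PSL(2, F)))
    {r : ℕ} [Fact r.Prime] (hr : r ∣ Nat.card G) {α : MulAut G} {k : ℕ} (hα : orderOf α = r ^ k)
    (R : Sylow r G) (hc : IsMulCommutative R) (hR : ∀ x ∈ (R : Subgroup G), α x = x) :
    ∃ g : G, ∀ x : G, α x = g * x * g⁻¹ := by
  rcases h with ⟨⟨e⟩⟩ | ⟨F, _, _, -, h8, ⟨e⟩⟩
  · refine inner_of_equiv e ?_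
    have : (Inn Spor.J1).index = 1 := H16.J1.card_out
    rw [index_eq_one.1 this]
    trivial
  refine inner_of_equiv e (psl_main h8 (R.mapSurjective (f := e.toMonoidHom) e.surjective) ?_
    (Nat.card_congr e.toEquiv ▸ hr) (k := k) (by rw [MulEquiv.orderOf_eq, hα]) ?_)
  · refine ⟨⟨?_⟩⟩
    rintro ⟨_, x, hx, rfl⟩ ⟨_, y, hy, rfl⟩
    refine Subtype.ext ?_
    change e x * e y = e y * e x
    rw [← map_mul, ← map_mul]
    exact congrArg _ (congrArg Subtype.val (hc.1.1 ⟨x, hx⟩ ⟨y, hy⟩))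
  · rintro _ ⟨x, hx, rfl⟩
    simp [hR x hx]

end Cfsg.Agent.AG
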