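import Cfsg.Agent.H24.Red

/-! `Y`-minimal groups with `Y` elementary abelian and normal in the maximal subgroup over it. -/

set_option autoImplicit false

namespace Cfsg.Agent.H24

open Subgroup
open scoped commutatorElement

variable {G : Type*} [Group G] {p : ℕ} {C X Y Z : Subgroup G} {a b g h k u x y z : G}

/-- The elements centralizing `a` modulo `C`. -/
def cm (C : Subgroup G) [C.Normal] (a : G) : Subgroup G :=
  (centralizer {(a : G ⧸ C)}).comap (QuotientGroup.mk' C)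

theorem mem_cm [C.Normal] : h ∈ cm C a ↔ ⁅h, a⁆ ∈ C := by
  rw [cm, mem_comap, mem_centralizer_singleton_iff, ← QuotientGroup.eq_one_iff,
    commutatorElement_def]
  simp [mul_inv_eq_iff_eq_mul]

theorem cm_symm [C.Normal] (h1 : h ∈ cm C a) : a ∈ cm C h := by
  rw [mem_cm] at h1 ⊢
  rw [← commutatorElement_inv]; exact inv_mem h1

theorem mem_cm_of_comm [C.Normal] (h1 : h * a = a * h) : h ∈ cm C a := by
  rw [mem_cm, commutatorElement_eq_one_iff_mul_comm.2 h1]; exact one_mem _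

/-- The central part of `Y`. -/
def cen (Y : Subgroup G) : Subgroup G := Y ⊓ center G

instance cen_normal (Y : Subgroup G) : (cen Y).Normal :=
  ⟨fun n hn g => by rwa [mem_center_iff.1 hn.2 g, mul_inv_cancel_right]⟩

theorem cen_le : cen Y ≤ Y := inf_le_left

theorem cen_cj (Y : Subgroup G) (g : G) : cen (cj Y g) = cen Y := by
  rw [← cj_eq_of_normal (H := cen Y) g, cen, cen, cj_inf, cj_eq_of_normal (H := center G)]

structure FrL (p : ℕ) (Y : Subgroup G) : Prop where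
  ea : IsElementaryAbelian p Y
  mo : MinOver Y 𝐍[Y] ⊤
  core : pCore p G ≤ ncl (Y ⊓ pCore p G) ⊤
  norm : pCore p G ≤ 𝐍[Y]

/-- `h` acts without fixed points on `O_p(G)` modulo `C`. -/
def Fpf (p : ℕ) (C : Subgroup G) [C.Normal] (h : G) : Prop := ∀ a ∈ pCore p G, h ∈ cm C a → a ∈ C

theorem Fpf.of_pow [C.Normal] {n : ℕ} (h1 : Fpf p C (h ^ n)) : Fpf p C h :=
  fun a ha h2 => h1 a ha (pow_mem h2 n)

namespace FrL

variable (hY : FrL p Y)
include hY

theorem cj (g : G) : FrL p (cj Y g) := by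
  refine ⟨isEA_cj hY.ea g, ?_, ?_, ?_⟩
  · simpa only [cj_normalizer, cj_top] using hY.mo.cj g
  · have := cj_mono hY.core g
    rwa [cj_ncl, cj_inf, cj_top, cj_eq_of_normal (H := pCore p G)] at this
  · simpa only [cj_normalizer, cj_eq_of_normal] using cj_mono hY.norm g

theorem comm (hx : x ∈ Y) (hy : y ∈ Y) : x * y = y * x := (isEA_iff.1 hY.ea).1 hy x hx

theorem not_le : ¬ Y ≤ pCore p G := fun h =>
  hY.mo.lt.not_ge (hY.mo.ncl.ge.trans ((ncl_le h (top_le_normalizer _)).trans hY.norm))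

theorem comm_mem (hy : y ∈ Y) (ha : a ∈ pCore p G) : ⁅y, a⁆ ∈ Y := by
  simpa only [commutatorElement_def, mul_assoc] using
    Y.mul_mem hy (conj_mem_of_mem_normalizer (hY.norm ha) (Y.inv_mem hy))

variable (hX : FrL p X) (e : cen X = cen Y) (hs : X ⊔ Y = ⊤)
include hX hs

include e in
theorem inf_eq : X ⊓ Y = cen Y := by
  refine le_antisymm (fun x hx => ⟨hx.2, ?_⟩) (le_inf (e.ge.trans cen_le) cen_le)
  have : X ⊔ Y ≤ centralizer {x} := sup_le
    (fun y hy => mem_centralizer_singleton_iff.2 (hX.comm hy hx.1))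
    (fun y hy => mem_centralizer_singleton_iff.2 (hY.comm hy hx.2))
  exact mem_center_iff.2 fun g => mem_centralizer_singleton_iff.1 (this (hs.ge (mem_top g)))

theorem core_le : pCore p G ≤ (X ⊓ pCore p G) ⊔ (Y ⊓ pCore p G) := by
  have k : ∀ {W : Subgroup G}, FrL p W → ⁅pCore p G, W⁆ ≤ W ⊓ pCore p G := fun hW =>
    le_inf (commutator_le_right_of_le_normalizer hW.norm) (commutator_le_left _ _)
  refine hY.core.trans (ncl_le le_sup_right (hs.ge.trans (sup_le ?_ ?_)))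
  · exact le_normalizer_of_commutator_le (sup_le inf_le_right inf_le_right) ((k hX).trans le_sup_left)
  · exact le_normalizer_of_commutator_le (sup_le inf_le_right inf_le_right) ((k hY).trans le_sup_right)

omit hX hs

theorem pair (hg : g ∉ 𝐍[Y]) : H24.cj Y g ⊔ Y = ⊤ := by
  rw [sup_comm]; exact hY.mo.sup_cj (mem_top g) hg

theorem core_comm (ha : a ∈ pCore p G) : pCore p G ≤ cm (cen Y) a := by
  obtain ⟨g, -, hg⟩ := SetLike.exists_of_lt hY.mo.lt
  have hX := hY.cj g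
  have s := hY.pair hg
  have i := hY.inf_eq hX (cen_cj Y g) s
  have c := hY.core_le hX s
  have k : ∀ x ∈ H24.cj Y g ⊓ pCore p G, ∀ y ∈ Y ⊓ pCore p G, y ∈ cm (cen Y) x := fun x hx y hy => by
    rw [mem_cm, ← i]
    refine ⟨?_, hY.comm_mem hy.1 hx.2⟩
    rw [← commutatorElement_inv]; exact Subgroup.inv_mem _ (hX.comm_mem hx.1 hy.2)
  refine c.trans (sup_le (fun x hx => cm_symm (c.trans (sup_le (fun y hy => ?_) (k x hx)) ha))
    fun y hy => cm_symm (c.trans (sup_le (fun x hx => cm_symm (k x hx y hy)) fun x hx => ?_) ha))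
  · exact mem_cm_of_comm (hX.comm hy.1 hx.1)
  · exact mem_cm_of_comm (hY.comm hx.1 hy.1)

theorem exists_not_norm (hy : y ∈ Y) (h1 : y ∉ pCore p G) : ∃ g, y ∉ 𝐍[H24.cj Y g] := by
  by_contra! h
  have k : y ∈ 𝐍[Y].normalCore := fun g => by
    have := h g⁻¹
    rwa [← cj_normalizer, mem_cj, inv_inv] at this
  refine h1 (pCoreOf_le_pCore (𝐍[Y].normalCore) (le_pCoreOf (A := 𝐍[Y].normalCore ⊓ Y) inf_le_left
    ((isPGroup_of_isElementaryAbelian hY.ea).to_inf_right)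
    (le_normalizer_inf le_normalizer (normalCore_le _)) ⟨k, hy⟩))

theorem cent (hy : y ∈ Y) (h1 : y ∉ pCore p G) (ha : a ∈ pCore p G) (h2 : y ∈ cm (cen Y) a) : a ∈ Y := by
  obtain ⟨g, hg⟩ := hY.exists_not_norm hy h1
  have hg' : g ∉ 𝐍[Y] := fun e => hg (by rw [cj_eq_of_mem_normalizer e]; exact le_normalizer hy)
  have hX := hY.cj g
  obtain ⟨b, hb, c, hc, rfl⟩ := (mem_sup_of_le_normalizer_right
    (inf_le_right.trans (le_normalizer_inf hY.norm le_normalizer))).1 (hY.core_le hX (hY.pair hg') ha)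
  refine Y.mul_mem ?_ hc.1
  have h3 : y ∈ cm (cen Y) b := cm_symm (by
    simpa using mul_mem (cm_symm h2) (inv_mem (mem_cm_of_comm (hY.comm hc.1 hy))))
  have h4 : cm (cen Y) b = ⊤ := hX.mo.eq_of_not_le
    (fun x hx => mem_cm_of_comm (hX.comm hx hb.1)) le_top fun e => hg (e h3)
  have h5 : ⁅g⁻¹, b⁆ ∈ Y := cen_le (mem_cm.1 (h4.ge (mem_top _)))
  simpa [commutatorElement_def, mul_assoc] using Y.mul_mem (Y.inv_mem h5) (mem_cj.1 hb.1)

theorem fpf_congr (h1 : Fpf p (cen Y) h) (h2 : h⁻¹ * k ∈ pCore p G) : Fpf p (cen Y) k :=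
  fun a ha h3 => h1 a ha (by simpa using mul_mem h3 (inv_mem (hY.core_comm ha h2)))

theorem fpf_mul {g g' : G} (hx : x ∈ H24.cj Y g) (hy : y ∈ H24.cj Y g') (hx1 : x ∉ pCore p G)
    (hy1 : y ∉ pCore p G) (h : (x * y) ^ p ≠ 1) : Fpf p (cen Y) (x * y) := by
  have hX := hY.cj g
  have hW := hY.cj g'
  have e : H24.cj Y g = H24.cj (H24.cj Y g') (g * g'⁻¹) := by rw [cj_cj]; simp
  have s : H24.cj Y g ⊔ H24.cj Y g' = ⊤ := by
    rw [e]
    refine hW.pair fun n => h ((isEA_iff.1 hW.ea).2 _ (mul_mem ?_ hy))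
    rwa [e, cj_eq_of_mem_normalizer n] at hx
  have i := hW.inf_eq hX (by rw [cen_cj, cen_cj]) s
  rw [cen_cj] at i
  intro a ha h1
  have h2 : y ∈ cm (cen Y) a := by
    rw [mem_cm, ← i]
    refine ⟨?_, hW.comm_mem hy ha⟩
    have := mul_mem (conj_mem_of_mem_normalizer' (le_normalizer hx) ((i.ge (mem_cm.1 h1)).1))
      (hX.comm_mem (inv_mem hx) ha)
    simpa [commutatorElement_def, mul_assoc] using this
  have h3 : x ∈ cm (cen Y) a := by simpa using mul_mem h1 (inv_mem h2)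
  rw [← i]
  exact ⟨hX.cent hx hx1 ha (by simpa only [cen_cj] using h3),
    hW.cent hy hy1 ha (by simpa only [cen_cj] using h2)⟩

theorem fpf_of_mul (hu : u ∈ H24.cj Y g) (h1 : z⁻¹ * (u⁻¹ * z * u) ∈ pCore p G)
    (h : Fpf p (cen Y) (z * u)) : Fpf p (cen Y) z := by
  intro a ha h2
  have hX := hY.cj g
  have hb : ⁅u, a⁆ ∈ pCore p G := by
    simpa only [commutatorElement_def] using
      mul_mem ((inferInstance : (pCore p G).Normal).conj_mem a ha u) (inv_mem ha)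
  have h3 : u⁻¹ * z * u ∈ cm (cen Y) a := by simpa using mul_mem h2 (hY.core_comm ha h1)
  have h4 : u * a * u⁻¹ ∈ cm (cen Y) z := by
    have := (cen_normal Y).conj_mem _ (mem_cm.1 (cm_symm h3)) u
    rw [mem_cm]
    simpa [commutatorElement_def, mul_assoc] using this
  have h5 : ⁅u, a⁆ ∈ cm (cen Y) z := mul_mem h4 (inv_mem (cm_symm h2))
  exact h a ha (mul_mem h2 (mem_cm.2 (h _ hb (mul_mem (cm_symm h5)
    (mem_cm_of_comm (hX.comm hu (hX.comm_mem hu ha)))))))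

end FrL

/-- `x` is a nontrivial element conjugate into `Z`. -/
def Cls (Z : Subgroup G) (x : G) : Prop := x ≠ 1 ∧ ∃ g, x ∈ cj Z g

theorem Cls.conj (hx : Cls Z x) (k : G) : Cls Z (k * x * k⁻¹) := by
  obtain ⟨h1, g, hg⟩ := hx
  exact ⟨by simpa [mul_inv_eq_iff_eq_mul] using h1, k * g, by rw [← cj_cj]; exact conj_mem_cj hg k⟩

def FLa (p : ℕ) (Z : Subgroup G) : Prop :=
  ∀ V : Subgroup G, V ≤ 𝐍[Z] → 𝐍[Z] ≤ 𝐍[V] → IsElementaryAbelian p V → V ≠ ⊥ → V = Z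

def FLb (p : ℕ) (Z : Subgroup G) : Prop :=
  ∀ h : G, (∀ k, h ^ p ^ k ≠ 1) → ∃ (n : ℕ) (u x y : G), (∃ g, u ∈ cj Z g) ∧ Cls Z x ∧ Cls Z y ∧
    (x * y) ^ p ≠ 1 ∧ h ^ n * u = u * h ^ n ∧ h ^ n * u = x * y

theorem FrL.fpf (hY : FrL p Y) {H : Type*} [Group H] {f : G →* H} (hf : Function.Surjective f)
    (hk : f.ker = pCore p G) (hb : FLb p (Y.map f)) (hh : ∀ k, h ^ p ^ k ≠ 1) : Fpf p (cen Y) h := by
  have l : ∀ {x g : H}, x ∈ H24.cj (Y.map f) g → ∃ x' g', x' ∈ H24.cj Y g' ∧ f x' = x := fun {x g} hx => by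
    obtain ⟨g', rfl⟩ := hf g
    rw [← map_cj] at hx
    obtain ⟨x', h1, h2⟩ := hx
    exact ⟨x', g', h1, h2⟩
  obtain ⟨n, u, x, y, ⟨g, hu⟩, ⟨x1, g1, hx⟩, ⟨y1, g2, hy⟩, h1, h2, h3⟩ := hb (f h) fun k e => by
    rw [← map_pow, ← MonoidHom.mem_ker, hk] at e
    obtain ⟨j, hj⟩ := isPGroup_iff.1 (isPGroup_pCore p G) _ e
    exact hh (k + j) (by rw [pow_add, pow_mul, hj])
  obtain ⟨u', g, hu', rfl⟩ := l hu
  obtain ⟨x', g1, hx', rfl⟩ := l hx
  obtain ⟨y', g2, hy', rfl⟩ := l hy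
  refine Fpf.of_pow (n := n) (hY.fpf_of_mul hu' ?_ (hY.fpf_congr (hY.fpf_mul hx' hy'
    (fun e => x1 (hk.ge e)) (fun e => y1 (hk.ge e)) fun e => h1 ?_) ?_))
  · rw [← hk, MonoidHom.mem_ker]; simp [mul_assoc, h2]
  · rw [← map_mul, ← map_pow, e, map_one]
  · rw [← hk, MonoidHom.mem_ker, map_mul, map_inv, map_mul, map_mul, map_pow, h3, inv_mul_cancel]

theorem flb_of_inverted [Finite G] (hZ : IsElementaryAbelian 2 Z)
    (h : ∀ h : G, h ≠ 1 → Odd (orderOf h) → ∃ x, Cls Z x ∧ x * h * x⁻¹ = h⁻¹) : FLb 2 Z := by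
  intro a ha
  obtain ⟨k, hk⟩ := exists_pow_coprime_orderOf (p := 2) (isOfFinOrder_of_finite a)
  set b := a ^ 2 ^ k with hb
  have o : Odd (orderOf b) := Nat.coprime_two_right.1 hk
  obtain ⟨x, hx, e⟩ := h b (ha k) o
  obtain ⟨j, hj⟩ := o
  have x2 : x * x = 1 := by
    obtain ⟨-, g, hg⟩ := hx
    rw [← sq]; exact (isEA_iff.1 (isEA_cj hZ g)).2 x hg
  have e1 : x * (b ^ j * x * (b ^ j)⁻¹) = b := by
    have : x * b ^ j * x⁻¹ = (b ^ j)⁻¹ := by rw [← conj_pow, e, inv_pow]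
    rw [← eq_inv_of_mul_eq_one_left x2] at this
    rw [← mul_assoc, ← mul_assoc, this, ← mul_inv_rev, ← pow_add,
      inv_eq_iff_mul_eq_one, ← pow_succ, ← two_mul, ← hj, pow_orderOf_eq_one]
  refine ⟨2 ^ k, 1, x, _, ⟨1, one_mem _⟩, hx, hx.conj (b ^ j), ?_, by simp, by rw [e1, mul_one]⟩
  rw [e1, hb, ← pow_mul, ← pow_succ]; exact ha _

end Cfsg.Agent.H24
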