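import Cfsg.Agent.H24.FL1
import Cfsg.Agent.H24.Nat2
import Cfsg.Agent.H15.Sz9

/-! The rank one groups occurring in `𝔏_G(Y_M)`. -/

set_option autoImplicit false

namespace Cfsg.Agent.H24

open Subgroup Matrix
open scoped commutatorElement MatrixGroups
open H12 (P1 inf aff rootSL upper mkSL2)

variable {G : Type*} [Group G] {p : ℕ} {Y Z : Subgroup G} {g : G}

section equiv
variable {H : Type*} [Group H] (e : G ≃* H)

theorem FLa.of_equiv (h : FLa p (Z.map e.toMonoidHom)) : FLa p Z := fun V h1 h2 h3 h4 =>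
  map_injective e.injective (h (V.map e.toMonoidHom) (map_le_normalizer_map _ h1)
    (by rw [← map_equiv_normalizer_eq]; exact map_le_normalizer_map _ h2) (H9.isEA_map h3 _)
    fun e' => h4 ((map_eq_bot_iff_of_injective _ e.injective).1 e'))

theorem FLb.of_equiv (h : FLb p (Z.map e.toMonoidHom)) : FLb p Z := fun a ha => by
  have l : ∀ {x g : H}, x ∈ cj (Z.map e.toMonoidHom) g → e.symm x ∈ cj Z (e.symm g) := fun {x g} hx => by
    obtain ⟨z, hz, e'⟩ := mem_cj.1 hx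
    rw [mem_cj, ← map_inv, ← map_mul, ← map_mul, ← e']; simpa using hz
  obtain ⟨n, u, x, y, ⟨g, hu⟩, ⟨x1, g1, hx⟩, ⟨y1, g2, hy⟩, h1, h2, h3⟩ :=
    h (e a) fun k e' => ha k (e.injective (by rw [map_pow, e', map_one]))
  refine ⟨n, e.symm u, e.symm x, e.symm y, ⟨_, l hu⟩, ⟨by simpa using x1, _, l hx⟩, ⟨by simpa using y1, _, l hy⟩,
    fun e' => h1 ?_, e.injective (by simpa using h2), e.injective (by simpa using h3)⟩
  simpa using congrArg e e'

end equiv

theorem fl_two [Finite G] (hZ : Nat.card Z = 2) (h0 : pCore 2 G = ⊥) (hs : cj Z g ⊔ Z = ⊤) :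
    FLa 2 Z ∧ FLb 2 Z := by
  obtain ⟨⟨s, hsZ⟩, s1, hs'⟩ := (Nat.card_eq_two_iff' (1 : Z)).1 hZ
  replace s1 : s ≠ 1 := fun e => s1 (Subtype.ext e)
  have hz : ∀ z ∈ Z, z = 1 ∨ z = s := fun z hz => by
    by_cases e : z = 1
    · exact Or.inl e
    · exact Or.inr (congrArg Subtype.val (hs' ⟨z, hz⟩ fun e' => e (congrArg Subtype.val e')))
  have si : s⁻¹ = s := (hz _ (Z.inv_mem hsZ)).resolve_left (by simpa using s1)
  have s2 : s * s = 1 := by nth_rewrite 1 [← si]; exact inv_mul_cancel s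
  set t := g * s * g⁻¹ with ht
  have ti : t⁻¹ = t := by rw [ht, conj_inv, si]
  have inv : ∀ r ∈ zpowers (s * t), s * r * s⁻¹ = r⁻¹ := by
    rintro _ ⟨n, rfl⟩
    have : s * (s * t) * s⁻¹ = (s * t)⁻¹ := by rw [← mul_assoc, s2, one_mul, _root_.mul_inv_rev, ti]
    simp only; rw [← conj_zpow, this, _root_.inv_zpow]
  have hn : Z ≤ 𝐍[zpowers (s * t)] := fun z hz' => by
    rcases hz z hz' with rfl | rfl
    · exact one_mem _
    · exact mem_normalizer_of_conj_mem fun r hr => inv r hr ▸ inv_mem hr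
  have dec : ∀ w : G, ∃ r ∈ zpowers (s * t), w = r ∨ w = r * s := fun w => by
    have : cj Z g ≤ zpowers (s * t) ⊔ Z := cj_le_iff'.2 fun z hz' => by
      rcases hz z hz' with rfl | rfl
      · simp
      · simpa using mul_mem (inv_mem (mem_sup_right (S := zpowers (z * t)) hsZ))
          (mem_sup_left (T := Z) (mem_zpowers (z * t)))
    obtain ⟨r, hr, z, hz', rfl⟩ := (mem_sup_of_le_normalizer_left hn).1
      (sup_le this le_sup_right (hs.ge (mem_top w)))
    rcases hz z hz' with rfl | rfl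
    exacts [⟨r, hr, Or.inl (mul_one r)⟩, ⟨r, hr, Or.inr rfl⟩]
  have cen : ∀ r ∈ zpowers (s * t), s * r * s⁻¹ = r → r = 1 := fun r hr e => by
    have c : r ∈ center G := mem_center_iff.2 fun w => by
      obtain ⟨r', hr', h1⟩ := dec w
      have c1 : r' * r = r * r' := setLike_mul_comm hr' hr
      rcases h1 with rfl | rfl
      · exact c1
      · rw [mul_assoc, mul_inv_eq_iff_eq_mul.1 e, ← mul_assoc, c1, mul_assoc]
    haveI : (zpowers r).Normal := ⟨fun n hn g => by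
      rwa [mem_center_iff.1 (zpowers_le.2 c hn) g, mul_inv_cancel_right]⟩
    have r2 : r ^ 2 ^ 1 = 1 := by
      rw [pow_one, sq]; nth_rewrite 1 [← e, inv r hr]; exact inv_mul_cancel r
    exact mem_bot.1 (h0.le (le_pCore (isPGroup_zpowers r2) (mem_zpowers r)))
  have ea : IsElementaryAbelian 2 Z := isEA_iff.2 ⟨fun a ha b hb => by
    rcases hz a ha with rfl | rfl <;> rcases hz b hb with rfl | rfl <;> simp, fun a ha => by
    rcases hz a ha with rfl | rfl <;> simp [sq, s2]⟩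
  refine ⟨fun V h1 _ h3 h4 => ?_, flb_of_inverted ea fun h h1 ho => ⟨s, ⟨s1, 1, by rwa [cj_one]⟩, ?_⟩⟩
  · have k : V ≤ Z := fun v hv => by
      have c : v * s * v⁻¹ = s := (hz _ (conj_mem_of_mem_normalizer (h1 hv) hsZ)).resolve_left
        (by simpa [mul_inv_eq_iff_eq_mul] using s1)
      rw [mul_inv_eq_iff_eq_mul] at c
      obtain ⟨r, hr, rfl | rfl⟩ := dec v
      · rw [cen v hr (by rw [← c, mul_inv_cancel_right])]; exact one_mem _
      · rw [cen r hr (by rw [← mul_assoc] at c; rw [← mul_right_cancel c, mul_inv_cancel_right]), one_mul]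
        exact hsZ
    refine le_antisymm k fun z hz' => ?_
    obtain ⟨v, hv, v1⟩ := (bot_or_exists_ne_one V).resolve_left h4
    rcases hz z hz' with rfl | rfl
    · exact one_mem _
    · exact (hz v (k hv)).resolve_left v1 ▸ hv
  · obtain ⟨r, hr, rfl | rfl⟩ := dec h
    · exact inv _ hr
    · refine absurd (orderOf_eq_one_iff.1 ((Nat.coprime_two_right.2 ho).eq_one_of_dvd
        (orderOf_dvd_of_pow_eq_one ?_))) h1
      have := inv r hr
      rw [si] at this
      rw [sq, mul_assoc, ← mul_assoc s, this, mul_inv_cancel]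

section sl2
variable {F : Type*} [Field F]

theorem cls_root {x : SL(2, F)} {y : P1 F} (h1 : x ≠ 1) (h : x ∈ rootSL y) : Cls (rootSL (inf F)) x := by
  obtain ⟨g, rfl⟩ := H12.exists_sl_point y
  exact ⟨h1, g, mem_cj.2 (H12.mem_rootSL_smul.1 h)⟩

theorem exists_root_of_trace {x : SL(2, F)} (hc : x 1 0 ≠ 0) (ht : x 0 0 + x 1 1 = 2) : ∃ y, x ∈ rootSL y := by
  obtain ⟨y, hy⟩ := exists_mem_sub ![1 - x 1 1, x 1 0]
  refine ⟨y, mem_root_of_fix (H12.vec2_ne_zero_right hc) hy (vec_ext ?_ ?_)⟩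
  · rw [sl_smul_zero]; simp only [cons_val_zero, cons_val_one]
    linear_combination ht - H12.sl2_det x
  · rw [sl_smul_one]; simp only [cons_val_zero, cons_val_one]; ring

theorem sl_prod [_root_.CharP F p] {k : SL(2, F)} {z : P1 F} (hz : k • z ≠ z) (hk : k ^ p ≠ 1) :
    ∃ x y, Cls (rootSL (inf F)) x ∧ Cls (rootSL (inf F)) y ∧ k = x * y := by
  obtain ⟨g, rfl⟩ := H12.exists_sl_point z
  set l := g⁻¹ * k * g with hl
  have hc : l 1 0 ≠ 0 := fun e => hz (by
    have : l • inf F = inf F := by rw [← H12.toGL_smul_proj, H12.gl_smul_inf_eq_inf_iff]; exact e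
    rwa [hl, mul_smul, mul_smul, inv_smul_eq_iff] at this)
  have ht : l 0 0 + l 1 1 ≠ 2 := fun e => by
    obtain ⟨y, hy⟩ := exists_root_of_trace hc e
    exact hk (H12.pow_char_of_mem_rootSL p (H12.mem_rootSL_smul.2 hy))
  set c := (l 0 0 + l 1 1 - 2) / l 1 0 with hc'
  have e0 : (l * upper (-c)) 1 0 = l 1 0 := by simp [mul_apply, Fin.sum_univ_two]
  obtain ⟨y, hy⟩ := exists_root_of_trace (x := l * upper (-c)) (e0 ▸ hc) (by
    have : l 1 0 * c = l 0 0 + l 1 1 - 2 := mul_div_cancel₀ _ hc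
    simp [mul_apply, Fin.sum_univ_two]
    linear_combination -this)
  refine ⟨_, _, (cls_root (fun e => hc ?_) hy).conj g,
    (cls_root (x := upper c) (fun e => ?_) (H12.mem_rootSL_inf.2 ⟨c, rfl⟩)).conj g, ?_⟩
  · rw [← e0, e]; simp
  · exact div_ne_zero (sub_ne_zero.2 ht) hc (H12.upper_injective (e.trans H12.upper_zero.symm))
  · rw [H12.upper_neg, hl]; group

theorem flb_sl [_root_.CharP F p] : FLb p (rootSL (inf F)) := fun h hh => by
  have h1 : h ^ p ≠ 1 := by simpa using hh 1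
  by_cases hz : ∀ z : P1 F, h • z = z
  · have c : h * upper 1 = upper 1 * h := by
      have := H12.gl_mem_center_of_fix_std (g := SpecialLinearGroup.toGL h) (hz _) (hz _) (hz _)
      exact SpecialLinearGroup.toGL_injective
        (by simpa using (mem_center_iff.1 this (SpecialLinearGroup.toGL (upper (1 : F)))).symm)
    have u := H12.mem_rootSL_inf.2 ⟨(1 : F), rfl⟩
    have h2 : (h * upper 1) ^ p ≠ 1 := by
      rwa [Commute.mul_pow c, H12.pow_char_of_mem_rootSL p u, mul_one]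
    obtain ⟨x, y, hx, hy, e⟩ := sl_prod (k := h * upper 1) (z := aff 0) (fun e => H12.aff_ne_inf 0
      (H12.eq_of_mem_rootSL_of_smul_eq u (fun e => one_ne_zero
        (H12.upper_injective (e.trans H12.upper_zero.symm))) (by rwa [mul_smul, hz] at e))) h2
    exact ⟨1, upper 1, x, y, ⟨1, by rwa [cj_one]⟩, hx, hy, e ▸ h2, by rwa [pow_one], by rwa [pow_one]⟩
  · obtain ⟨z, hz⟩ := not_forall.1 hz
    obtain ⟨x, y, hx, hy, e⟩ := sl_prod hz h1
    exact ⟨1, 1, x, y, ⟨1, one_mem _⟩, hx, hy, e ▸ h1, by simp, by simpa using e⟩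

theorem fla_sl [Fact p.Prime] [Finite F] [_root_.CharP F p] : FLa p (rootSL (inf F)) := fun V h1 h2 h3 h4 => by
  have k : V ≤ rootSL (inf F) := (sylIn_top (H12.rootSylow p (inf F))).le_of_le_normalizer
    (isPGroup_of_isElementaryAbelian h3) le_top h1
  obtain ⟨v, hv, v1⟩ := (bot_or_exists_ne_one V).resolve_left h4
  obtain ⟨b, rfl⟩ := H12.mem_rootSL_inf.1 (k hv)
  have b0 : b ≠ 0 := fun e => v1 (by rw [e, H12.upper_zero])
  have sq : ∀ a : F, upper (a * a * b) ∈ V := fun a => by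
    by_cases a0 : a = 0
    · simp [a0]
    have n : mkSL2 a 0 0 a⁻¹ (by simp [a0]) ∈ 𝐍[rootSL (inf F)] := H12.mem_normalizer_rootSL.2 (by
      rw [← H12.toGL_smul_proj, H12.gl_smul_inf_eq_inf_iff]; rfl)
    convert conj_mem_of_mem_normalizer (h2 n) hv using 1
    rw [eq_mul_inv_iff_mul_eq]
    ext i j; fin_cases i <;> fin_cases j <;> simp [mul_apply, Fin.sum_univ_two, a0]
    field_simp
  refine le_antisymm k fun z hz => ?_
  obtain ⟨c, rfl⟩ := H12.mem_rootSL_inf.1 hz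
  by_cases h2 : (2 : F) = 0
  · obtain ⟨a, ha⟩ := FiniteField.isSquare_of_char_two
      (CharP.ringChar_of_prime_eq_zero Nat.prime_two h2) (c / b)
    simpa [← ha, b0] using sq a
  · convert mul_mem (sq ((c / b + 1) / 2)) (inv_mem (sq ((c / b - 1) / 2))) using 1
    rw [← H12.upper_neg, ← H12.upper_add]; congr 1; field_simp; ring

theorem fl_sl [Fact p.Prime] [Fintype F] (e : G ≃* SL(2, F)) (hZ : IsPGroup p Z) (h0 : Z ≠ ⊥)
    (hc : Nat.card Z = Fintype.card F) : FLa p Z ∧ FLb p Z := by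
  haveI : Finite G := Finite.of_equiv _ e.symm.toEquiv
  obtain ⟨n, hn⟩ := exists_card_eq_pow hZ
  haveI : _root_.CharP F p := charP_of_card_eq_prime_pow (hc.symm.trans hn)
  obtain ⟨x, hx⟩ := H12.le_rootSL_of_isPGroup p (hZ.map e.toMonoidHom)
  replace hx := eq_of_le_of_card_le hx (by
    rw [H12.card_rootSL, card_map_of_injective e.injective, hc, Nat.card_eq_fintype_card])
  obtain ⟨g, rfl⟩ := H12.exists_sl_point x
  have k : (Z.map e.toMonoidHom).map (MulAut.conj g⁻¹).toMonoidHom = rootSL (inf F) := by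
    rw [hx, map_conj_eq_cj, cj_eq_iff, inv_inv]
    ext; rw [H12.mem_rootSL_smul, mem_cj]
  exact ⟨.of_equiv e (.of_equiv _ (k ▸ fla_sl)), .of_equiv e (.of_equiv _ (k ▸ flb_sl))⟩

end sl2

theorem fl_sz {F : Type*} [Field F] [_root_.CharP F 2] [Finite F] (M : H15.Sz.Model G F) {m : ℕ} (hm : 1 ≤ m)
    (hq : Nat.card F = 2 ^ (2 * m + 1)) (hZ : IsElementaryAbelian 2 Z) (hc : Nat.card Z = Nat.card F) :
    FLa 2 Z ∧ FLb 2 Z := by
  haveI := M.finite
  obtain ⟨P, hP⟩ := (isPGroup_of_isElementaryAbelian hZ).exists_le_sylow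
  obtain ⟨M, -, hM⟩ := M.exists_model_sylow P
  have k : ∀ x ∈ M.Q, x ^ 2 = 1 → x ∈ M.Z := by
    intro x hx h2
    obtain ⟨a, b, rfl⟩ := M.mem_Q.1 hx
    exact M.S_mem_Z.2 (M.S_mul_self_eq_one.1 (by rwa [← sq]))
  obtain rfl : Z = M.Z := eq_of_le_of_card_le (fun x hx => k x (hM.ge (hP hx)) (hZ.2 x hx))
    (by rw [M.card_Z, hc])
  have s1 : M.S 0 1 ≠ 1 := by simp [M.S_eq_one]
  refine ⟨fun V h1 h2 h3 h4 => ?_, flb_of_inverted hZ fun h h1 ho => ?_⟩
  · have l : V ≤ M.Z := fun v hv => k v (M.le_Q (isPGroup_sup_of_le_normalizer_right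
      (isPGroup_of_isElementaryAbelian h3) (isPGroup_of_isElementaryAbelian hZ) h1)
      (mem_sup_right (M.S_mem_Z.2 rfl)) s1 (M.S_mem 0 1) (mem_sup_left hv)) (h3.2 v hv)
    obtain ⟨v, hv, v1⟩ := (bot_or_exists_ne_one V).resolve_left h4
    obtain ⟨b, rfl⟩ := M.mem_Z.1 (l hv)
    have b0 : b ≠ 0 := fun e => v1 (by rw [e, M.S_zero])
    refine le_antisymm l fun z hz => ?_
    obtain ⟨c, rfl⟩ := M.mem_Z.1 hz
    by_cases c0 : c = 0
    · rw [c0, M.S_zero]; exact one_mem _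
    obtain ⟨a, ha⟩ := M.exists_θ (div_ne_zero c0 b0)
    have n : M.D a ∈ 𝐍[M.Z] := mem_normalizer_of_conj_mem fun x hx => by
      obtain ⟨d, rfl⟩ := M.mem_Z.1 hx
      rw [M.D_conj_S]; exact M.S_mem_Z.2 (mul_zero _)
    have := conj_mem_of_mem_normalizer (h2 n) hv
    rwa [M.D_conj_S, mul_zero, ha, div_mul_cancel₀ _ b0] at this
  · have t := M.tor_cent h1 ho
    obtain ⟨c, hc, e⟩ := t.card_normalizer hm hq
    obtain ⟨s, hs, s2⟩ := exists_orderOf_eq_prime (p := 2) (H := 𝐍[centralizer {h}])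
      (e ▸ Dvd.dvd.mul_right (by rcases hc with rfl | rfl <;> norm_num) _)
    have s2' : s ^ 2 = 1 := s2 ▸ pow_orderOf_eq_one s
    refine ⟨s, ⟨fun e => by simp [e] at s2, ?_⟩, t.inverts hs s2 (mem_centralizer_singleton_iff.2 rfl)⟩
    obtain ⟨g, -, hg⟩ := (sylIn_top M.sylow).exists_cj_le (isPGroup_zpowers (k := 1) s2') le_top
    refine ⟨g⁻¹, mem_cj.2 (k _ ?_ ?_)⟩
    · rw [inv_inv]; exact hg (conj_mem_cj (mem_zpowers s) g)
    · rw [inv_inv, conj_pow, s2']; simp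

end Cfsg.Agent.H24
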