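import Cfsg.Agent.H24.FL2

/-! The members of `𝔏_G(Y_M)`. -/

set_option autoImplicit false

namespace Cfsg.Agent.H24

open Subgroup

variable {G : Type*} [Group G] {p : ℕ} {L M Y : Subgroup G}

theorem FrL.map_ne_bot (hY : FrL p Y) : Y.map (QuotientGroup.mk' (pCore p G)) ≠ ⊥ := fun e =>
  hY.not_le (by rwa [Subgroup.map_eq_bot_iff, QuotientGroup.ker_mk'] at e)

theorem FrL.fl_two [Finite G] (hY : FrL 2 Y) (h : Nat.card (Y.map (QuotientGroup.mk' (pCore 2 G))) = 2) :
    FLa 2 (Y.map (QuotientGroup.mk' (pCore 2 G))) ∧ FLb 2 (Y.map (QuotientGroup.mk' (pCore 2 G))) := by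
  obtain ⟨g, -, hg⟩ := SetLike.exists_of_lt hY.mo.lt
  refine H24.fl_two (g := QuotientGroup.mk' _ g) h (pCore_quotient_pCore 2 G) ?_
  rw [← map_cj, ← Subgroup.map_sup, hY.pair hg, map_top_of_surjective _ (QuotientGroup.mk'_surjective _)]

theorem FrL.normalizer_map (hY : FrL p Y) :
    𝐍[Y.map (QuotientGroup.mk' (pCore p G))] = 𝐍[Y].map (QuotientGroup.mk' (pCore p G)) := by
  refine le_antisymm ?_ (map_le_normalizer_map _ le_rfl)
  rw [← map_comap_eq_self_of_surjective (QuotientGroup.mk'_surjective (pCore p G))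
    𝐍[Y.map (QuotientGroup.mk' (pCore p G))]]
  refine map_mono (hY.mo.max _ (map_le_iff_le_comap.1 le_normalizer) (lt_top_iff_ne_top.2 fun e => ?_))
  haveI : (Y.map (QuotientGroup.mk' (pCore p G))).Normal := top_le_normalizer_iff.1 fun x _ => by
    obtain ⟨x, rfl⟩ := QuotientGroup.mk'_surjective _ x
    exact e.ge (mem_top x)
  exact hY.map_ne_bot (eq_bot_iff.2 ((le_pCore ((isPGroup_of_isElementaryAbelian hY.ea).map _)).trans
    (pCore_quotient_pCore p G).le))

theorem frl_of [Finite G] [Fact p.Prime] (hL : IsInFrakL p M L) : FrL p ((Yp p M).subgroupOf L) ∧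
    FLa p (((Yp p M).subgroupOf L).map (QuotientGroup.mk' (pCore p L))) ∧
    FLb p (((Yp p M).subgroupOf L).map (QuotientGroup.mk' (pCore p L))) := by
  obtain ⟨h1, h2, h3, h4, -, ⟨h5, h6⟩, h7⟩ := hL
  have hY : FrL p ((Yp p M).subgroupOf L) := by
    refine ⟨H9.isEA_subgroupOf (isEA_Yp p M) L, ?_, ?_, ?_⟩
    · have m : MinOver (Yp p M) (L ⊓ 𝐍[Yp p M]) L := ⟨le_inf h1 le_normalizer, h5,
        by rw [← map_normalClosure_subgroupOf h1, h4.1, map_subtype_top], h6⟩
      simpa only [inf_subgroupOf_left, subgroupOf_normalizer_eq h1] using m.subgroupOf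
    · rw [← map_pCore_subtype, map_subtype_inj', map_pCore_subtype, ← ncl_top] at h2
      rw [← pCoreOf_subgroupOf, subgroupOf, subgroupOf, ← comap_inf]
      exact (pCoreOf_subgroupOf p L).le.trans h2.le
    · rw [← pCoreOf_subgroupOf, ← subgroupOf_normalizer_eq h1]; exact comap_mono h3
  have hc : Nat.card (((Yp p M).subgroupOf L).map (QuotientGroup.mk' (pCore p L))) =
      (Yp p M ⊓ pCoreOf p L).relIndex (Yp p M) := by
    rw [← relIndex_ker, QuotientGroup.ker_mk', ← pCoreOf_subgroupOf, relIndex_subgroupOf h1, inf_relIndex_left]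
  have hp := (isPGroup_of_isElementaryAbelian hY.ea).map (QuotientGroup.mk' (pCore p L))
  refine ⟨hY, ?_⟩
  rcases h7 with ⟨F, _, _, h, ⟨e⟩⟩ | ⟨rfl, F, _, _, m, hF, h, ⟨e⟩⟩ | ⟨rfl, r, hr, r2, ⟨e⟩⟩
  · exact fl_sl e hp hY.map_ne_bot (hc.trans h.symm)
  · rcases m.eq_zero_or_pos with rfl | hm
    · exact hY.fl_two (hc.trans (h.symm.trans hF))
    haveI := H15.Sz.charP_two hF
    have := fl_sz (H15.Sz.lieModel hm hF) hm (Nat.card_eq_fintype_card.trans hF)
      (H9.isEA_map (H9.isEA_map hY.ea (QuotientGroup.mk' (pCore 2 L))) e.toMonoidHom)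
      (by rw [card_map_of_injective e.injective, hc, ← h, Nat.card_eq_fintype_card])
    exact ⟨.of_equiv e this.1, .of_equiv e this.2⟩
  · refine hY.fl_two ?_
    obtain ⟨n, hn⟩ := exists_card_eq_pow hp
    have d := card_subgroup_dvd_card (((Yp 2 M).subgroupOf L).map (QuotientGroup.mk' (pCore 2 L)))
    haveI : NeZero r := ⟨hr.ne_zero⟩
    rw [Nat.card_congr e.toEquiv, DihedralGroup.nat_card, hn] at d
    rw [hn]
    rcases n with _ | _ | n
    · exact absurd (card_eq_one.1 hn) hY.map_ne_bot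
    · rfl
    · rw [pow_succ', Nat.mul_dvd_mul_iff_left two_pos] at d
      exact absurd ((Nat.prime_dvd_prime_iff_eq Nat.prime_two hr).1
        ((dvd_pow_self 2 n.succ_ne_zero).trans d)).symm r2

end Cfsg.Agent.H24
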