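import Cfsg.Agent.H24.BK8
import Cfsg.Agent.H4.Burnside
import Cfsg.Agent.H10.Comp
import Cfsg.Agent.H21.Hol

/-! The P(G,V)-theorem: best offenders normalize components. -/

set_option autoImplicit false

namespace Cfsg.Agent.H24

open Subgroup
open scoped commutatorElement
open H9 (EAMod eaRep)

variable {G : Type*} [Group G] {p n : ℕ} {A B C D E H K L U V W X Y : Subgroup G} {a b c d e g u v w x y z : G}

/-- `g` acts nontrivially on the component `K` -/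
def Mv (K : Subgroup G) (g : G) : Prop := (g ∈ 𝐍[K] ∧ g ∉ 𝐂[K]) ∨ cj K g ≤ 𝐂[K]

theorem comm_mul_cent (h : c * y = y * c) : ⁅x * c, y⁆ = ⁅x, y⁆ := by
  rw [commutatorElement_def, commutatorElement_def, mul_assoc x c, h]; group

theorem mem_cent_cj (h : a * d = d * a) : d ∈ 𝐂[cj K a] ↔ d ∈ 𝐂[K] := by
  rw [← cj_centralizer, mem_cj, mul_assoc, ← h, inv_mul_cancel_left]

theorem mem_norm_cj (h : a * d = d * a) : d ∈ 𝐍[cj K a] ↔ d ∈ 𝐍[K] := by
  rw [← cj_normalizer, mem_cj, mul_assoc, ← h, inv_mul_cancel_left]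

theorem comm_mem_of_norm' (h : x ∈ 𝐍[X]) (hg : g ∈ X) : ⁅x, g⁆ ∈ X :=
  mul_mem (conj_mem_of_mem_normalizer h hg) (inv_mem hg)

theorem three_elt (h1 : d ∈ 𝐂[⁅V, zpowers a⁆]) (h2 : a * d = d * a) : ⁅V, zpowers d⁆ ≤ 𝐂[zpowers a] := by
  rw [le_centralizer_iff_commutator, commutator_comm V]
  exact three_subgroups_bot (le_centralizer_iff_commutator'.1 (zpowers_le.2 h1))
    (by rw [le_centralizer_iff_commutator.1 (zpowers_le_centralizer_zpowers h2), commutator_bot_left])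

section qs
variable (hK : IsQuasisimple K)
include hK

theorem qs_exists_comm (h1 : g ∈ 𝐍[K]) (h2 : g ∉ 𝐂[K]) : ∃ x ∈ K, ⁅x, g⁆ ∉ 𝐂[K] := by
  by_contra! c
  have := le_centralizer_iff_commutator.1 (commutator_zpowers_right_le (normalizer_le_normalizer_centralizer K h1) c)
  have := three_subgroups_bot this (by rwa [commutator_comm (zpowers g)])
  rw [H10.QS.perfect hK] at this
  exact h2 (zpowers_le.1 (le_centralizer_iff_commutator'.2 this))

theorem qs_le (hn : K ≤ 𝐍[X]) (hg : g ∈ X) (h : Mv K g) : K ≤ X := by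
  obtain ⟨h1, h2⟩ | h := h
  · obtain ⟨x, hx, c⟩ := qs_exists_comm hK h1 h2
    exact ((H10.QS.normal_cases hK inf_le_right (le_normalizer_inf hn le_normalizer)).resolve_left fun e => c
      (le_centralizer_iff_commutator.2 e ⟨comm_mem_of_norm' (hn hx) hg, comm_mem_of_norm h1 hx⟩)).ge.trans inf_le_left
  · refine (H10.QS.perfect hK).ge.trans (commutator_le.2 fun x hx y hy => ?_)
    have := comm_mem_of_norm (hn hy) (comm_mem_of_norm' (hn hx) hg)
    rwa [commutatorElement_def x g, mul_assoc, mul_assoc, ← mul_assoc g,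
      comm_mul_cent (h (conj_mem_cj (inv_mem hx) g) y hy).symm] at this

theorem qs_exists : ∃ x ∈ K, x ∉ 𝐂[K] := SetLike.not_le_iff_exists.1 (H10.QS.not_le_centralizer hK)

omit hK in
theorem mv_mul (hx : x ∈ K) (h0 : x ∉ 𝐂[K]) (he : e ∈ 𝐂[K]) : Mv K (x * e) :=
  .inl ⟨mul_mem (le_normalizer hx) (centralizer_le_normalizer' K he), fun c => h0 ((mul_mem_cancel_right he).1 c)⟩

theorem pgv_x (hL : IsQuasisimple L) (nK : K ≤ 𝐍[V]) (nL : L ≤ 𝐍[V]) (c : K ≤ 𝐂[L]) (hg : g ∈ 𝐍[V]) (m : Mv L g)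
    (h1 : u ∈ 𝐂[⁅V, zpowers g⁆]) (h2 : u ∈ 𝐂[L]) (m' : Mv K u) : K ≤ 𝐂[⁅V, L⁆] := by
  have k : ⁅V, zpowers g⁆ ≤ V ⊓ 𝐂[zpowers u] := le_inf (commutator_le_left_of_le_normalizer (zpowers_le.2 hg))
    (le_centralizer_iff.1 (zpowers_le.2 h1))
  have := qs_le hL (le_normalizer_centMod nL (le_normalizer_inf nL (le_normalizer_centralizer
    (le_normalizer_of_le_centralizer (le_centralizer_iff.1 (zpowers_le.2 h2))))))
    (le_centMod_iff.2 ⟨le_normalizer_of_commutator_le inf_le_left k, k⟩ (mem_zpowers g)) m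
  exact qs_le hK (le_normalizer_centralizer (le_normalizer_commutator nK (le_normalizer_of_le_centralizer c)))
    (zpowers_le.1 (le_centralizer_iff.1 ((le_centMod_iff.1 this).2.trans inf_le_right))) m'

variable [Finite G]

theorem qs_exists_prime {r s : ℕ} (hr : r.Prime) (hs : s.Prime) :
    ∃ q, q.Prime ∧ q ≠ r ∧ q ≠ s ∧ ∃ x ∈ K, x ∉ 𝐂[K] ∧ ∃ k, x ^ q ^ k = 1 := by
  by_contra! c
  have : ∀ q, q.Prime → q ∣ (center K).index → q = r ∨ q = s := fun q hq h => by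
    by_contra! k
    haveI := Fact.mk hq
    obtain ⟨R, hR⟩ := exists_sylIn q K
    refine hR.not_dvd_relIndex (h.trans (index_dvd_of_le fun x hx => mem_center_iff.2 fun y => Subtype.ext ?_))
    by_contra e
    obtain ⟨k', hk⟩ := isPGroup_iff.1 hR.pgrp _ hx
    exact c q hq k.1 k.2 x x.2 (fun m => e (m _ y.2)) k' hk
  haveI := H4.isSolvable_of_forall_prime_dvd (G := K ⧸ center K) hr hs this
  haveI : Group.IsSolvable (center K) := Group.isSolvable_of_comm fun a b => Subtype.ext (mem_center_iff.1 b.2 a)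
  exact H10.QS.not_solvable hK (Group.isSolvable_of_ker_le_range (center K).subtype (QuotientGroup.mk' (center K)) (by simp))

theorem pgv_f [Fact p.Prime] (hV : IsPGroup p V) (nK : K ≤ 𝐍[V]) (ha : a ∈ 𝐍[V]) (h : K ≤ 𝐂[⁅V, cj K a⁆])
    (h1 : d ∈ 𝐂[⁅V, zpowers a⁆]) (h2 : d ∈ 𝐍[V]) (h3 : d ∈ 𝐍[K]) (h4 : d ∈ 𝐍[cj K a]) (h5 : d ∉ 𝐂[K]) : K ≤ 𝐂[V] := by
  have w1 := commutator_le_left_of_le_normalizer nK
  have r := pResidualOf_eq_self_of_perfect (p := p) (H10.QS.perfect hK)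
  have n1 := le_normalizer_commutator (zpowers_le.2 h2) (zpowers_le.2 h3)
  have nW := right_le_normalizer_commutator V K
  have k : ⁅⁅V, K⁆, zpowers d⁆ ≤ ⁅V, K⁆ ⊓ 𝐂[K] := le_inf (commutator_le_left_of_le_normalizer n1)
    (commutator_zpowers_right_le (normalizer_le_normalizer_centralizer K h3) fun w hw => by
      have m : a * w * a⁻¹ ∈ ⁅V, cj K a⁆ := by
        rw [← cj_eq_of_mem_normalizer ha, ← cj_commutator]; exact conj_mem_cj hw a
      have e := h1 _ (commutator_mem_commutator (inv_mem (w1 hw)) (mem_zpowers a))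
      have : ⁅w, d⁆ = ⁅a * w * a⁻¹, d⁆ := by
        simp only [commutatorElement_def, inv_inv] at e ⊢
        calc _ = w * (d * (w⁻¹ * a * w * a⁻¹)) * (a * w⁻¹ * a⁻¹ * d⁻¹) := by group
          _ = _ := by rw [← e]; group
      exact this ▸ le_centralizer_iff.1 h (comm_mem_of_norm (le_normalizer_commutator (zpowers_le.2 h2)
        (zpowers_le.2 h4) (mem_zpowers d)) m))
  have := qs_le hK (le_normalizer_centMod nW (le_normalizer_inf nW (le_normalizer_centralizer le_normalizer)))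
    (le_centMod_iff.2 ⟨le_normalizer_of_commutator_le inf_le_left k, k⟩ (mem_zpowers d)) (.inl ⟨h3, h5⟩)
  exact le_centralizer_of_stabilizes r (hV.to_le w1) le_rfl (le_centralizer_of_stabilizes r (hV.to_le (inf_le_left.trans w1))
    (le_centMod_iff.1 this).2 (le_centralizer_iff.1 inf_le_right))

end qs

theorem ring_quad {R : Type*} [Ring R] [Fact p.Prime] [_root_.CharP R p] (h2 : IsUnit (2 : R)) {t : R} (ht : t * t = 0) (N : ℕ)
    (S : R → Prop) (hS : ∀ y, S y → S (y * y) ∧ y ^ p ^ N = y ∧ ((1 + t) * y * (1 - t)) ^ p ^ N = (1 + t) * y * (1 - t) ∧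
      ((1 - t) * y * (1 + t)) ^ p ^ N = (1 - t) * y * (1 + t) ∧ Commute y ((1 + t) * y * (1 - t)) ∧
      Commute y ((1 - t) * y * (1 + t)) ∧ Commute ((1 + t) * y * (1 - t)) ((1 - t) * y * (1 + t)))
    (hN : N ≠ 0) {y : R} (hy : S y) : (1 + t) * y * (1 - t) = y := by
  have z : ∀ s : R, s * s = 0 → s ^ p ^ N = s → s = 0 := fun s h1 h2 => by
    rw [← h2]; exact pow_eq_zero_of_le (Nat.one_lt_pow hN (Fact.out : p.Prime).one_lt) (by rw [sq, h1])
  have k : ∀ y, S y → t * y * t = 0 := fun y hy => by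
    obtain ⟨-, a1, a2, a3, c1, c2, c3⟩ := hS y hy
    have e : (y - (1 + t) * y * (1 - t)) + (y - (1 - t) * y * (1 + t)) = 2 * (t * y * t) := by noncomm_ring
    refine h2.mul_right_eq_zero.1 (e ▸ z _ ?_ ?_)
    · rw [e]
      calc _ = 4 * (t * y * (t * t) * y * t) := by noncomm_ring
        _ = 0 := by simp [ht]
    · rw [add_pow_char_pow_of_commute _ _ (((Commute.refl y).sub_right c2).sub_left (c1.symm.sub_right c3)),
        sub_pow_char_pow_of_commute _ _ c1, sub_pow_char_pow_of_commute _ _ c2, a1, a2, a3]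
  obtain ⟨b, a1, a2, -, c1, -⟩ := hS y hy
  refine sub_eq_zero.1 (z _ ?_ (by rw [sub_pow_char_pow_of_commute _ _ c1.symm, a1, a2]))
  have e : (1 + t) * y * (1 - t) - y = t * y - y * t - t * y * t := by noncomm_ring
  rw [e, k y hy, sub_zero]
  calc _ = t * y * t * y - t * (y * y) * t - y * (t * t) * y + y * (t * y * t) := by noncomm_ring
    _ = 0 := by simp [k y hy, k _ b, ht]

/-- an elementary abelian group permuting commuting quasisimple groups -/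
structure PG (p : ℕ) (V A K : Subgroup G) : Prop where
  ea : IsElementaryAbelian p V
  eA : IsElementaryAbelian p A
  nA : A ≤ 𝐍[V]
  nK : K ≤ 𝐍[V]
  qs : IsQuasisimple K
  cc : ∀ a ∈ A, a ∉ 𝐍[K] → cj K a ≤ 𝐂[K]
  nc : ¬ K ≤ 𝐂[V]

namespace PG
variable (h : PG p V A K)
include h

theorem comm (ha : a ∈ A) (hb : b ∈ A) : a * b = b * a := (isEA_iff.1 h.eA).1 hb a ha
theorem qs' (a : G) : IsQuasisimple (cj K a) := H10.QS.map_of_injective h.qs (MulAut.conj a).injective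
theorem nK' (ha : a ∈ A) : cj K a ≤ 𝐍[V] := cj_le_of_mem h.nK (h.nA ha)
theorem cc' (ha : a ∈ A) (hb : b ∈ A) (h0 : b⁻¹ * a ∉ 𝐍[K]) : cj K a ≤ 𝐂[cj K b] := by
  have := cj_mono (h.cc _ (mul_mem (inv_mem hb) ha) h0) b
  rwa [cj_cj, mul_inv_cancel_left, cj_centralizer] at this
theorem mv (ha : a ∈ A) (h0 : a ∉ 𝐂[K]) : Mv K a := (em _).imp (⟨·, h0⟩) (h.cc a ha)

theorem not_mem (hx : x ∈ K) (h0 : x ∉ 𝐂[K]) (he : e ∈ 𝐂[K]) : x * e ∉ 𝐂[V] := fun c =>
  h.nc (qs_le h.qs (le_normalizer_centralizer h.nK) c (mv_mul hx h0 he))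

variable [Finite G] [Fact p.Prime]

theorem pow_norm (ha : a ∈ A) (h0 : a ∉ 𝐍[K]) (h1 : 0 < n) (h2 : n < p) : a ^ n ∉ 𝐍[K] := fun c => h0 (by
  have : orderOf a = p := orderOf_eq_prime ((isEA_iff.1 h.eA).2 a ha) fun e => h0 (e ▸ one_mem _)
  obtain ⟨m, e⟩ := exists_pow_eq_self_of_coprime (x := a) (n := n) (this ▸ (Nat.coprime_of_lt_prime h1.ne' h2 Fact.out).symm)
  exact e ▸ pow_mem c m)

theorem diag (ha : a ∈ A) (h0 : a ∉ 𝐍[K]) (hx : x ∈ K) : ∃ e ∈ 𝐂[K], e ∈ 𝐍[V] ∧ a * (x * e) = x * e * a := by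
  have : ∀ n, n < p → ∃ e ∈ 𝐂[K], (x * a) ^ (n + 1) = x * e * a ^ (n + 1) := fun n => by
    induction n with
    | zero => exact fun _ => ⟨1, one_mem _, by simp⟩
    | succ n ih =>
      intro hn
      obtain ⟨e, he, k⟩ := ih (by omega)
      exact ⟨_, mul_mem he (h.cc _ (pow_mem ha _) (h.pow_norm ha h0 n.succ_pos hn) (conj_mem_cj hx _)), by
        rw [pow_succ, k, pow_succ a (n + 1)]; simp [mul_assoc]⟩
  obtain ⟨e, he, k⟩ := this (p - 1) (Nat.sub_one_lt (Fact.out : p.Prime).ne_zero)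
  rw [Nat.sub_one_add_one (Fact.out : p.Prime).ne_zero, (isEA_iff.1 h.eA).2 a ha, mul_one] at k
  refine ⟨e, he, (mul_mem_cancel_left (h.nK hx)).1 (k ▸ pow_mem (mul_mem (h.nK hx) (h.nA ha)) p), mul_left_cancel (a := x) ?_⟩
  rw [← mul_assoc, ← k, ← pow_succ', pow_succ, k, mul_assoc x e, ← mul_assoc e, ← he x hx]

theorem odd_norm (hp : p ≠ 2) (ha : a ∈ A) (h0 : a ∉ 𝐍[K]) (hb : b ∈ A) (h1 : b ∈ 𝐂[⁅V, A⁆]) (h2 : b ∈ 𝐍[K])
    (h3 : b ∉ 𝐂[K]) : False := by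
  obtain ⟨x, hx, x0⟩ := qs_exists_comm h.qs h2 h3
  obtain ⟨e, he, eV, c⟩ := h.diag ha h0 hx
  have x1 := comm_mem_of_norm h2 hx
  have e1 := comm_mem_of_norm (normalizer_le_normalizer_centralizer K h2) he
  have ed : ⁅x * e, b⁆ = ⁅x, b⁆ * ⁅e, b⁆ := by
    rw [e1 _ x1, ← mul_inv_cancel_right ⁅e, b⁆ x, ← e1 x hx]
    simp only [commutatorElement_def]; group
  have m : ∀ c ∈ A, b ∈ 𝐂[⁅V, zpowers c⁆] := fun c hc => centralizer_anti (commutator_mono le_rfl (zpowers_le.2 hc)) h1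
  have ad : a * ⁅x * e, b⁆ = ⁅x * e, b⁆ * a :=
    ((Commute.mul_right (Commute.mul_right c (h.comm ha hb)) (Commute.inv_right c)).mul_right (Commute.inv_right (h.comm ha hb))).eq
  have dV := mul_mem (h.nK hx) eV
  have d1 : ⁅x * e, b⁆ ∈ 𝐂[⁅V, zpowers a⁆] := comm_mem_of_norm' (le_normalizer_centralizer (le_normalizer_commutator
    (zpowers_le.2 dV) (le_normalizer_of_le_centralizer (zpowers_le_centralizer_zpowers c.symm))) (mem_zpowers _)) (m a ha)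
  have ad' : a⁻¹ * ⁅x * e, b⁆ = ⁅x * e, b⁆ * a⁻¹ := (Commute.inv_left ad).eq
  have a2 : a⁻¹⁻¹ * a ∉ 𝐍[K] := by
    rw [inv_inv, ← sq]; exact h.pow_norm ha h0 two_pos ((Fact.out : p.Prime).two_le.lt_of_ne hp.symm)
  have a1 : a⁻¹ ∉ 𝐍[K] := fun k => h0 ((inv_mem_iff).1 k)
  have k := le_centralizer_iff.1 (h.cc _ (inv_mem ha) a1)
  have m1 := conj_mem_cj (inv_mem x1) a
  refine h.nc (pgv_f h.qs (isPGroup_of_isElementaryAbelian h.ea) h.nK (h.nA (inv_mem ha)) (pgv_x h.qs (h.qs' _) h.nK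
    (h.nK' (inv_mem ha)) k (u := ⁅x, b⁆ * (a * ⁅x, b⁆⁻¹ * a⁻¹)) (comm_mem_of_norm (le_normalizer (h.nA hb)) dV) (.inl
      ⟨(mem_norm_cj ad').2 (ed ▸ mul_mem (le_normalizer x1) (centralizer_le_normalizer' K e1)), fun c => x0
        ((mul_mem_cancel_right e1).1 (ed ▸ (mem_cent_cj ad').1 c))⟩) ?_ (mul_mem (k x1) (h.cc' ha (inv_mem ha) a2 m1))
    (mv_mul x1 x0 (h.cc a ha h0 m1))) (m _ (inv_mem ha)) (h.nA hb) h2 ((mem_norm_cj (h.comm (inv_mem ha) hb)).2 h2) h3)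
  rw [← mul_assoc, ← mul_assoc]
  exact comm_mem_of_norm' (le_normalizer_centralizer (le_normalizer_commutator (zpowers_le.2 (h.nK x1))
    (le_normalizer_of_le_centralizer (zpowers_le_centralizer_zpowers (by rw [ed, mul_assoc, e1 _ x1])))) (mem_zpowers _))
    (zpowers_le.1 (le_centralizer_iff.1 (three_elt d1 ad)))

theorem odd_quad (hp : p ≠ 2) (hb : b ∈ A) (h1 : b ∈ 𝐂[⁅V, zpowers b⁆]) : b ∈ 𝐍[K] := by
  by_contra h0
  obtain ⟨q, hq, q1, -, x, hx, x0, k, hk⟩ := qs_exists_prime h.qs (Fact.out : p.Prime) (Fact.out : p.Prime)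
  let ρ := eaRep h.ea (le_refl 𝐍[V])
  haveI : Nontrivial (EAMod h.ea) := not_subsingleton_iff_nontrivial.1 fun c => h.nc fun g _ v hv => by
    rw [show v = 1 from congrArg EAMod.val (Subsingleton.elim (EAMod.mk h.ea v hv) 0)]; simp
  haveI : _root_.CharP (Module.End (ZMod p) (EAMod h.ea)) p := charP_of_injective_algebraMap (algebraMap (ZMod p) _).injective p
  let β : 𝐍[V] := ⟨b, h.nA hb⟩
  have ht := H9.eaRep_quadratic (hV := h.ea) (hH := le_refl 𝐍[V]) β (le_centralizer_iff_commutator'.1 (zpowers_le.2 h1))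
  set t := ρ β - 1
  have e1 : 1 + t = ρ β := by simp [t]
  have e2 : 1 - t = ρ β⁻¹ := by
    have : (1 - t) * ρ β = 1 := by rw [← e1]; noncomm_ring [ht]
    calc _ = (1 - t) * ρ β * ρ β⁻¹ := by rw [mul_assoc, ← map_mul, mul_inv_cancel, map_one, mul_one]
      _ = _ := by rw [this, one_mul]
  have b1 : b⁻¹ ∉ 𝐍[K] := fun k => h0 ((inv_mem_iff).1 k)
  have b2 : b⁻¹⁻¹ * b ∉ 𝐍[K] := by
    rw [inv_inv, ← sq]; exact h.pow_norm hb h0 two_pos ((Fact.out : p.Prime).two_le.lt_of_ne hp.symm)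
  have cop : p.Coprime (q ^ k) := ((Nat.coprime_primes Fact.out hq).2 q1.symm).pow_right k
  have pw : ∀ y : 𝐍[V], y ^ q ^ k = 1 → ρ y ^ p ^ (q ^ k).totient = ρ y := fun y hy => by
    rw [← map_pow, pow_eq_pow_mod _ hy, Nat.ModEq.pow_totient cop, ← pow_eq_pow_mod _ hy, pow_one]
  have u := (IsUnit.mk0 ((2 : ℕ) : ZMod p) fun c => hp ((Nat.prime_dvd_prime_iff_eq Fact.out Nat.prime_two).1
    ((ZMod.natCast_eq_zero_iff 2 p).1 c))).map (algebraMap (ZMod p) (Module.End (ZMod p) (EAMod h.ea)))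
  have := ring_quad (p := p) (by rwa [map_natCast, Nat.cast_ofNat] at u) ht (q ^ k).totient
    (fun r => ∃ y : 𝐍[V], (y : G) ∈ K ∧ y ^ q ^ k = 1 ∧ ρ y = r) (by
      rintro _ ⟨y, y1, y2, rfl⟩
      simp only [e1, e2, ← map_mul]
      have c : ∀ u v : 𝐍[V], (u : G) * v = v * u → Commute (ρ u) (ρ v) := fun u v e => (Commute.map (Subtype.ext e) ρ)
      refine ⟨⟨y * y, mul_mem y1 y1, by rw [(Commute.refl y).mul_pow, y2, one_mul], rfl⟩, pw y y2,
        pw _ (by rw [conj_pow, y2]; simp), pw _ (by simpa [y2] using conj_pow (a := β⁻¹) (b := y) (i := q ^ k)),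
        c _ _ (h.cc b hb h0 (conj_mem_cj y1 b) _ y1), c _ _ (by simpa using h.cc _ (inv_mem hb) b1 (conj_mem_cj y1 _) _ y1),
        c _ _ (by simpa using (h.cc' hb (inv_mem hb) b2 (conj_mem_cj y1 b) _ (conj_mem_cj y1 _)).symm)⟩)
    (Nat.totient_pos.2 (pow_pos hq.pos k)).ne' (y := ρ ⟨x, h.nK hx⟩) ⟨_, hx, Subtype.ext hk, rfl⟩
  rw [e1, e2, ← map_mul, ← map_mul] at this
  exact h.not_mem (inv_mem hx) (fun c => x0 (inv_mem_iff.1 c)) (h.cc b hb h0 (conj_mem_cj hx b))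
    ((H9.eaRep_eq_one_iff (hV := h.ea) (hH := le_refl 𝐍[V]) ((⟨x, h.nK hx⟩ : 𝐍[V])⁻¹ * (β * ⟨x, h.nK hx⟩ * β⁻¹))).1
      (by rw [map_mul, this, ← map_mul, inv_mul_cancel, map_one]))

end PG

theorem card_ann [Finite G] [Fact p.Prime] (hV : IsElementaryAbelian p V) (U : Subgroup G) :
    Nat.card (EAMod.ofSubgroup hV U).dualAnnihilator = U.relIndex V := by
  refine Nat.eq_of_mul_eq_mul_left (Nat.card_pos (α := (U ⊓ V : Subgroup G))) ?_
  rw [card_inf_mul_relIndex, ← EAMod.toSubgroup_ofSubgroup (hV := hV), EAMod.card_toSubgroup, ← EAMod.card_eq (hV := hV),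
    Module.natCard_eq_pow_finrank (K := ZMod p) (V := EAMod hV), Module.natCard_eq_pow_finrank (K := ZMod p)
      (V := EAMod.ofSubgroup hV U), Module.natCard_eq_pow_finrank (K := ZMod p)
      (V := (EAMod.ofSubgroup hV U).dualAnnihilator), ← pow_add, Subspace.finrank_add_finrank_dualAnnihilator_eq]

theorem dual_count [Finite G] [Fact p.Prime] (hV : IsElementaryAbelian p V) (S : Finset G) (F : G → Subgroup G) {m : ℕ}
    (h1 : ∀ a ∈ S, W ≤ F a) (h2 : ∀ a ∈ S, m < (F a).relIndex V)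
    (h3 : ∀ a ∈ S, {b | b ∈ S ∧ ¬ V ≤ V ⊓ F a ⊔ V ⊓ F b}.ncard ≤ n) : S.card * m + n ≤ W.relIndex V * n := by
  classical
  haveI : Finite (Module.Dual (ZMod p) (EAMod hV)) := Module.finite_of_finite (ZMod p)
  haveI := Fintype.ofFinite (Module.Dual (ZMod p) (EAMod hV))
  let t : Subgroup G → Finset (Module.Dual (ZMod p) (EAMod hV)) := fun U =>
    (Finset.univ.filter (· ∈ (EAMod.ofSubgroup hV U).dualAnnihilator)).erase 0
  have ct : ∀ U, (t U).card + 1 = U.relIndex V := fun U => by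
    rw [Finset.card_erase_add_one (by simp), ← card_ann hV, Nat.card_eq_fintype_card, Fintype.card_subtype]
  have mt : ∀ U f, f ∈ t U ↔ f ≠ 0 ∧ ∀ v : EAMod hV, v.val ∈ U → f v = 0 := fun U f => by
    simp [t, Submodule.mem_dualAnnihilator, EAMod.mem_ofSubgroup]
  rw [← ct, add_mul, one_mul, add_le_add_iff_right]
  refine Finset.card_mul_le_card_mul (fun a f => f ∈ t (F a)) (fun a ha => (Nat.lt_succ_iff.1 ((h2 a ha).trans_eq
    (ct _).symm)).trans (Finset.card_le_card fun f hf => (Finset.mem_bipartiteAbove _).2 ⟨(mt _ _).2 ⟨((mt _ _).1 hf).1,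
      fun v hv => ((mt _ _).1 hf).2 v (h1 a ha hv)⟩, hf⟩)) fun f _ => ?_
  obtain e | ⟨a, ha⟩ := (S.bipartiteBelow (fun a f => f ∈ t (F a)) f).eq_empty_or_nonempty
  · simp [e]
  obtain ⟨a1, a2⟩ := (Finset.mem_bipartiteBelow _).1 ha
  refine le_trans ?_ (h3 a a1)
  rw [← Set.ncard_coe_finset]
  refine Set.ncard_le_ncard (fun b hb => ?_) (Set.toFinite _)
  obtain ⟨b1, b2⟩ := (Finset.mem_bipartiteBelow _).1 hb
  refine ⟨b1, fun c => ((mt _ _).1 a2).1 (LinearMap.ext fun v => ?_)⟩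
  obtain ⟨x, hx, y, hy, e⟩ := (mem_sup_of_le_normalizer_right (le_normalizer_of_le_centralizer (inf_le_left.trans
    ((isEA_iff.1 hV).1.trans (centralizer_anti inf_le_left))))).1 (c v.val_mem)
  rw [show v = EAMod.mk hV x hx.1 + EAMod.mk hV y hy.1 from EAMod.ext' e, map_add, ((mt _ _).1 a2).2 (.mk hV x hx.1) hx.2,
    ((mt _ _).1 b2).2 (.mk hV y hy.1) hy.2, add_zero, LinearMap.zero_apply]

namespace PG
variable (h : PG 2 V A K)
include h

theorem inv_eq (ha : a ∈ A) : a⁻¹ = a := inv_eq_of_mul_eq_one_right (by rw [← sq]; exact (isEA_iff.1 h.eA).2 a ha)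

theorem dg_comm (ha : a ∈ A) (h0 : a ∉ 𝐍[K]) (hx : x ∈ K) : a * (x * (a * x * a⁻¹)) = x * (a * x * a⁻¹) * a :=
  calc _ = a * x * a⁻¹ * x * a⁻¹ := by rw [h.inv_eq ha]; group
    _ = _ := by rw [← h.cc a ha h0 (conj_mem_cj hx a) x hx, h.inv_eq ha]

theorem dg_norm (ha : a ∈ A) (hx : x ∈ K) : x * (a * x * a⁻¹) ∈ 𝐍[V] := mul_mem (h.nK hx) (h.nK' ha (conj_mem_cj hx a))

theorem dg_mem (ha : a ∈ A) (h0 : a ∉ 𝐍[K]) (hb : b ∈ A) (h1 : b ∈ 𝐂[⁅V, zpowers a⁆]) (h2 : b ∉ 𝐂[K]) (h3 : b * a ∉ 𝐍[K]) :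
    ∀ x ∈ K, x * (a * x * a⁻¹) ∈ 𝐂[⁅V, zpowers a⁆] := by
  let δ : K →* G := MonoidHom.mk' (fun x => x * (a * x * a⁻¹)) fun x y => by
    rw [mul_assoc _ (a * x * a⁻¹), ← mul_assoc (a * x * a⁻¹), ← h.cc a ha h0 (conj_mem_cj x.2 a) _ y.2]; simp [mul_assoc]
  have n : ∀ x : K, δ x ∈ 𝐍[𝐂[⁅V, zpowers a⁆]] := fun x => le_normalizer_centralizer (le_normalizer_commutator
    (zpowers_le.2 (h.dg_norm ha x.2)) (le_normalizer_of_le_centralizer (zpowers_le_centralizer_zpowers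
      (h.dg_comm ha h0 x.2).symm))) (mem_zpowers _)
  haveI : (𝐂[⁅V, zpowers a⁆].comap δ).Normal := ⟨fun x hx y => by
    rw [mem_comap, map_mul, map_mul, map_inv]; exact conj_mem_of_mem_normalizer (n y) hx⟩
  suffices ∃ g : K, (g : G) ∉ 𝐂[K] ∧ δ g ∈ 𝐂[⁅V, zpowers a⁆] by
    obtain ⟨g, g1, g2⟩ := this
    intro x hx
    obtain ⟨y, hy, rfl⟩ := qs_le h.qs (map_subtype_le_normalizer (𝐂[⁅V, zpowers a⁆].comap δ)) ⟨g, g2, rfl⟩
      (.inl ⟨le_normalizer g.2, g1⟩) hx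
    exact hy
  have ab : Commute a b := h.comm ha hb
  by_cases h4 : b ∈ 𝐍[K]
  · obtain ⟨x, hx, x0⟩ := qs_exists_comm h.qs h4 h2
    refine ⟨⟨x, hx⟩ * ⟨_, conj_mem_of_mem_normalizer h4 hx⟩⁻¹, by simpa [commutatorElement_def, mul_assoc] using x0, ?_⟩
    have := comm_mem_of_norm' (n ⟨x, hx⟩) h1
    rw [map_mul, map_inv]
    convert this using 1
    have e1 : ∀ z, a⁻¹ * (b * (a * z)) = b * z := fun z => by rw [← mul_assoc b, ← ab.eq]; group
    have e2 : ∀ z, b⁻¹ * (a⁻¹ * (b * z)) = a⁻¹ * z := fun z => by rw [← mul_assoc a⁻¹, ab.inv_left.eq]; group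
    simp only [δ, MonoidHom.mk'_apply, commutatorElement_def, mul_inv_rev, inv_inv, mul_assoc, inv_mul_cancel_left, e1, e2]
  · obtain ⟨y, hy, y0⟩ := qs_exists h.qs
    obtain ⟨x, hx, x0⟩ := qs_exists_comm h.qs (le_normalizer hy) y0
    refine ⟨⁅(⟨x, hx⟩ : K), ⟨y, hy⟩⁆, x0, ?_⟩
    have c : b * (δ ⟨x, hx⟩)⁻¹ * b⁻¹ ∈ 𝐂[K] := by
      have := mul_mem (h.cc _ (mul_mem hb ha) h3 (conj_mem_cj (inv_mem hx) _)) (h.cc b hb h4 (conj_mem_cj (inv_mem hx) _))
      simpa [δ, mul_assoc] using this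
    have c' := (mem_cent_cj (a := a) ((ab.mul_right (Commute.inv_right (h.dg_comm ha h0 hx))).mul_right ab.inv_right).eq).2 c
    have := comm_mem_of_norm (n ⟨y, hy⟩) (comm_mem_of_norm' (n ⟨x, hx⟩) h1)
    rwa [commutatorElement_def _ b, mul_assoc, mul_assoc, ← mul_assoc b, comm_mul_cent (y := δ ⟨y, hy⟩) ((Commute.mul_left (c y hy)
      (c' _ (conj_mem_cj hy a))).symm.eq), ← map_commutatorElement] at this

variable [Finite G]

theorem three (ha : a ∈ A) (h0 : a ∉ 𝐍[K]) (hb : b ∈ A) (h1 : b ∉ 𝐍[K]) (h2 : b * a ∉ 𝐍[K])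
    (h3 : ∀ x ∈ K, x * (a * x * a⁻¹) ∈ 𝐂[⁅V, zpowers a⁆]) (h4 : ∀ x ∈ K, x * (b * x * b⁻¹) ∈ 𝐂[⁅V, zpowers b⁆]) : False := by
  obtain ⟨x, hx, x0⟩ := qs_exists h.qs
  have k := le_centralizer_iff.1 (h.cc b hb h1)
  have m := mv_mul hx x0 (h.cc b hb h1 (conj_mem_cj hx b))
  have n := mul_mem (le_normalizer hx) (centralizer_le_normalizer' K (h.cc b hb h1 (conj_mem_cj hx b)))
  refine h.nc (pgv_f h.qs (isPGroup_of_isElementaryAbelian h.ea) h.nK (h.nA hb) (pgv_x h.qs (h.qs' _) h.nK (h.nK' hb) k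
    (h.nA ha) (.inr ?_) (h3 x hx) (mul_mem (k hx) (h.cc' ha hb (by rwa [h.inv_eq hb]) (conj_mem_cj hx a)))
    (mv_mul hx x0 (h.cc a ha h0 (conj_mem_cj hx a)))) (h4 x hx) (h.dg_norm hb hx) n ((mem_norm_cj (h.dg_comm hb h1 hx)).2 n)
    fun c => x0 ((mul_mem_cancel_right (h.cc b hb h1 (conj_mem_cj hx b))).1 c))
  rw [cj_cj]; exact h.cc' (mul_mem ha hb) hb (by rwa [h.comm ha hb, inv_mul_cancel_left])

theorem transv (hb : b ∈ A) (h0 : b ∉ 𝐍[K]) : 2 < 𝐂[zpowers b].relIndex V := by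
  by_contra! h1
  obtain ⟨q, hq, q2, q3, x, hx, x0, k, hk⟩ := qs_exists_prime h.qs Nat.prime_two Nat.prime_three
  haveI := Fact.mk hq
  have m := h.cc b hb h0 (conj_mem_cj (inv_mem hx) b)
  set y := x * (b * x⁻¹ * b⁻¹)
  have yV : zpowers y ≤ 𝐍[V] := zpowers_le.2 (mul_mem (h.nK hx) (h.nK' hb (conj_mem_cj (inv_mem hx) b)))
  have pY : IsPGroup q (zpowers y) := isPGroup_zpowers (k := k) (by
    rw [(show Commute x _ from m x hx).mul_pow, conj_pow, inv_pow, hk]; simp)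
  have i : 𝐂[zpowers y].relIndex V ≤ 4 := by
    refine (relIndex_le_of_le_left (centralizer_anti (zpowers_le.2 (show y ∈ cj (zpowers b) x ⊔ zpowers b from ?_)))
      (relIndex_ne_zero _)).trans ((relIndex_cent_sup_le _ _ _).trans (show _ ≤ 2 * 2 from Nat.mul_le_mul ?_ h1))
    · simpa [y, mul_assoc] using mul_mem (mem_sup_left (conj_mem_cj (mem_zpowers b) x)) (mem_sup_right (inv_mem (mem_zpowers b)))
    · rwa [← cj_centralizer, ← cj_eq_of_mem_normalizer (h.nK hx), relIndex_cj]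
  have nD := le_normalizer_inf yV (le_normalizer_centralizer (le_normalizer (H := zpowers y)))
  refine h.not_mem hx x0 m (zpowers_le.1 (le_centralizer_of_stabilizes (p := 2) (pResidualOf_eq_self_of_coprime ?_)
    ((isPGroup_of_isElementaryAbelian h.ea).to_le inf_le_left) (commutator_le.2 fun v hv g hg => ?_)
    (le_centralizer_iff.1 (inf_le_right (a := V)))))
  · obtain ⟨r, e⟩ := IsPGroup.iff_card.1 pY
    exact e ▸ ((Nat.coprime_primes hq Nat.prime_two).2 q2).pow_left r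
  have vD : v ∈ 𝐍[(V ⊓ 𝐂[zpowers y] : Subgroup G)] := le_normalizer_of_le_centralizer ((isEA_iff.1 h.ea).1.trans
    (centralizer_anti inf_le_left)) hv
  have := le_of_not_dvd_relIndex pY (A := centMod (zpowers v) (V ⊓ 𝐂[zpowers y])) fun c => by
    have := (Nat.le_of_dvd (Nat.pos_of_ne_zero (relIndex_ne_zero _)) c).trans ((H9.relIndex_le_of_forall (X := V)
      (fun g => g * v⁻¹ * g⁻¹) (fun g hg => conj_mem_of_mem_normalizer (yV hg) (inv_mem hv)) fun g hg g' hg' e => ?_).trans i)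
    · have := hq.two_le
      interval_cases q <;> simp_all (config := {decide := true})
    have g1 := mul_mem (inv_mem hg) hg'
    refine (mem_centMod_zpowers (nD g1) vD).2 ((inv_mem_iff).1 ⟨?_, ?_⟩)
    · rw [commutatorElement_inv]; exact comm_mem_of_norm (yV g1) hv
    · simpa [commutatorElement_def, mul_assoc] using
        conj_mem_of_mem_normalizer (le_normalizer_centralizer le_normalizer (inv_mem hg)) e
  exact (this hg).2 v (mem_zpowers v)

theorem count (hA : IsBestOffenderOn 2 V A) (h1 : A ⊓ 𝐂[K] ≤ 𝐂[V]) (h2 : V ≤ ⁅V, ncl K A⁆) (ha : a ∈ A) (h0 : a ∉ 𝐍[K])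
    (h3 : ∀ a ∈ A, a ∉ 𝐍[K] → ∀ b ∈ A, b ∉ 𝐍[K] → b * a ∈ 𝐍[K])
    (h4 : ∀ a ∈ A, a ∉ 𝐍[K] → ∀ x ∈ K, x * (a * x * a⁻¹) ∈ 𝐂[⁅V, zpowers a⁆]) : False := by
  classical
  haveI := Fintype.ofFinite G
  let S := Finset.univ.filter fun a => a ∈ A ∧ a ∉ 𝐍[K]
  have mS : ∀ a, a ∈ S ↔ a ∈ A ∧ a ∉ 𝐍[K] := by simp [S]
  have k1 := dual_count h.ea S (fun a => 𝐂[zpowers a]) (W := 𝐂[A]) (n := Nat.card (𝐂[V] ⊓ A : Subgroup G))
    (fun a ha => centralizer_anti (zpowers_le.2 ((mS a).1 ha).1)) (fun a ha => h.transv ((mS a).1 ha).1 ((mS a).1 ha).2)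
    fun a ha => by
      refine Set.ncard_le_ncard_of_injOn (t := (𝐂[V] ⊓ A : Subgroup G)) (· * a) (fun b hb => ?_)
        (fun _ _ _ _ => mul_right_cancel) (Set.toFinite _)
      obtain ⟨a1, a2⟩ := (mS a).1 ha
      obtain ⟨b1, b2⟩ := (mS b).1 hb.1
      refine ⟨h1 ⟨mul_mem b1 a1, by_contra fun c => hb.2 (h2.trans ?_)⟩, mul_mem b1 a1⟩
      set Y := V ⊓ 𝐂[zpowers a] ⊔ V ⊓ 𝐂[zpowers b]
      have y1 : Y ≤ V := sup_le inf_le_left inf_le_left
      have n : ∀ c ∈ A, A ≤ 𝐍[(V ⊓ 𝐂[zpowers c] : Subgroup G)] := fun c hc => le_normalizer_inf h.nA (le_normalizer_centralizer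
        (le_normalizer_of_le_centralizer ((isEA_iff.1 h.eA).1.trans (centralizer_anti (zpowers_le.2 hc)))))
      have nX := le_normalizer_centMod h.nA (le_normalizer_sup (n a a1) (n b b1))
      have m : ∀ c ∈ A, c ∉ 𝐍[K] → V ⊓ 𝐂[zpowers c] ≤ Y → ∀ x ∈ K, x * (c * x * c⁻¹) ∈ centMod V Y := fun c c1 c2 c3 x hx => by
        have := (le_inf (commutator_le_left_of_le_normalizer (zpowers_le.2 (h.dg_norm c1 hx)))
          (three_elt (h4 c c1 c2 x hx) (h.dg_comm c1 c2 hx))).trans c3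
        exact le_centMod_iff.2 ⟨le_normalizer_of_commutator_le y1 this, this⟩ (mem_zpowers _)
      obtain ⟨x, hx, x0⟩ := qs_exists_comm h.qs (h3 a a1 a2 b b1 b2) c
      refine (le_centMod_iff.1 (ncl_le ((qs_le h.qs (X := K ⊓ centMod V Y) (fun y hy => mem_normalizer_of_conj_mem fun z hz =>
        ⟨conj_mem_of_mem_normalizer (le_normalizer hy) hz.1, ?_⟩) ⟨comm_mem_of_norm (h3 a a1 a2 b b1 b2) hx, ?_⟩
        (.inl ⟨le_normalizer (comm_mem_of_norm (h3 a a1 a2 b b1 b2) hx), x0⟩)).trans inf_le_right) nX)).2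
      · have := conj_mem_of_mem_normalizer (le_normalizer (m a a1 a2 le_sup_left y hy)) hz.2
        rwa [mul_assoc y, ← h.cc a a1 a2 (conj_mem_cj hy a) z hz.1, mul_inv_rev, ← mul_assoc, ← mul_assoc,
          mul_inv_cancel_right] at this
      · have := conj_mem_of_mem_normalizer (nX (inv_mem a1)) (mul_mem (inv_mem (m a a1 a2 le_sup_left _ (inv_mem hx)))
          (m b b1 b2 le_sup_right _ (inv_mem hx)))
        rw [show b * a = a⁻¹ * b by rw [h.inv_eq a1, h.comm b1 a1]]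
        simpa [commutatorElement_def, mul_assoc] using this
  have k2 : Nat.card A ≤ S.card * 2 := by
    have := Finset.card_le_card_of_injOn (s := Finset.univ.filter fun c => c ∈ A ∧ c ∈ 𝐍[K]) (t := S) (a * ·)
      (fun c hc => by
        simp only [Finset.coe_filter, Finset.mem_univ, true_and, Set.mem_ofPred_eq] at hc
        exact Finset.mem_coe.2 ((mS _).2 ⟨mul_mem ha hc.1, fun k => h0 ((mul_mem_cancel_right hc.2).1 k)⟩))
      fun _ _ _ _ => mul_left_cancel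
    rw [Nat.card_eq_fintype_card, Fintype.card_subtype, ← Finset.card_filter_add_card_filter_not (· ∈ 𝐍[K]),
      Finset.filter_filter, Finset.filter_filter, mul_two]
    exact Nat.add_le_add_right this _
  have k3 := Nat.mul_le_mul_right (Nat.card (𝐂[V] ⊓ A : Subgroup G)) (IsBestOffenderOn.relIndex_le hA)
  rw [mul_comm (𝐂[V].relIndex A), card_inf_mul_relIndex] at k3
  have := Nat.card_pos (α := (𝐂[V] ⊓ A : Subgroup G))
  omega

theorem two (hA : IsBestOffenderOn 2 V A) (h1 : A ⊓ 𝐂[K] ≤ 𝐂[V]) (h2 : V ≤ ⁅V, ncl K A⁆) (ha : a ∈ A) (h0 : a ∉ 𝐍[K])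
    (hB : IsBestOffenderOn 2 V (A ⊓ 𝐂[⁅V, A⁆])) (hb : b ∈ A ⊓ 𝐂[⁅V, A⁆]) (b0 : b ∉ 𝐂[K]) : False := by
  have m : ∀ b ∈ A ⊓ 𝐂[⁅V, A⁆], ∀ c ∈ A, b ∈ 𝐂[⁅V, zpowers c⁆] := fun b hb c hc =>
    centralizer_anti (commutator_mono le_rfl (zpowers_le.2 hc)) hb.2
  by_cases k : ∃ b ∈ A ⊓ 𝐂[⁅V, A⁆], b ∈ 𝐍[K] ∧ b ∉ 𝐂[K]
  · obtain ⟨b, hb, b1, b2⟩ := k
    have d : ∀ a ∈ A, a ∉ 𝐍[K] → _ := fun a ha h0 => h.dg_mem ha h0 hb.1 (m b hb a ha) b2 fun c =>
      h0 ((mul_mem_cancel_left b1).1 c)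
    exact h.count hA h1 h2 ha h0 (fun a ha h0 c hc c0 => by_contra fun k => h.three ha h0 hc c0 k (d a ha h0) (d c hc c0)) d
  push Not at k
  have b1 : b ∉ 𝐍[K] := fun c => b0 (k b hb c)
  refine (h.transv hb.1 b1).not_ge ((relIndex_le_of_le_left (centralizer_anti (zpowers_le.2 hb)) (relIndex_ne_zero _)).trans
    ((IsBestOffenderOn.relIndex_le hB).trans ((relIndex_le_of_fac (W := zpowers b) fun c hc => ?_).trans ?_)))
  · by_cases c1 : c ∈ 𝐍[K]
    · exact ⟨1, one_mem _, c, h1 ⟨hc.1, k c hc c1⟩, (one_mul c).symm⟩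
    refine ⟨b⁻¹, inv_mem (mem_zpowers b), b * c, h1 ⟨mul_mem hb.1 hc.1, k _ (mul_mem hb hc) (by_contra fun c2 => ?_)⟩, by simp⟩
    exact h.three hc.1 c1 hb.1 b1 c2 (h.dg_mem hc.1 c1 hb.1 (m b hb c hc.1) b0 c2) (h.dg_mem hb.1 b1 hc.1 (m c hc b hb.1)
      (fun e => c1 (centralizer_le_normalizer' K e)) (h.comm hb.1 hc.1 ▸ c2))
  · exact (Nat.le_of_dvd Nat.card_pos (relIndex_dvd_card' _ _)).trans (by
      rw [Nat.card_zpowers]; exact orderOf_le_of_pow_eq_one two_pos ((isEA_iff.1 h.eA).2 b hb.1))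

end PG

theorem IsBestOffenderOn.anti [Finite G] (h : IsBestOffenderOn p V A) (hU : U ≤ V) : IsBestOffenderOn p U A := by
  refine ⟨fun B hB => ?_, h.2.1.trans (centralizer_anti hU), fun a ha => centralizer_anti hU (h.2.2 a ha)⟩
  have e : ∀ X : Subgroup G, Nat.card (X ⊓ 𝐂[B] : Subgroup G) =
      Nat.card (X ⊓ 𝐂[A] : Subgroup G) * 𝐂[A].relIndex (X ⊓ 𝐂[B]) := fun X => by
    rw [← card_inf_mul_relIndex 𝐂[A], inf_left_comm, inf_eq_left.2 (centralizer_anti hB)]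
  have := h.1 B hB
  rw [e, mul_left_comm, mul_comm (Nat.card A)] at this
  rw [e, mul_left_comm, mul_comm (Nat.card A)]
  exact Nat.mul_le_mul_left _ ((Nat.mul_le_mul_left _ (relIndex_le_of_le_right (inf_le_inf_right _ hU)
    (relIndex_ne_zero _))).trans (Nat.le_of_mul_le_mul_left this Nat.card_pos))

theorem PG.norm [Finite G] [Fact p.Prime] (h : PG p V A K) (hA : IsBestOffenderOn p V A) : A ≤ 𝐍[K] := by
  intro a ha
  by_contra h0
  have cA := (isEA_iff.1 h.eA).1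
  have pV := isPGroup_of_isElementaryAbelian h.ea
  have r := pResidualOf_eq_self_of_perfect (p := p) (H10.QS.perfect h.qs)
  have nE := le_normalizer_ncl K A
  have rE : pResidualOf p (ncl K A) = ncl K A := le_antisymm (pResidualOf_le _ _) (ncl_le (r.ge.trans
    (pResidualOf_mono (le_ncl _ _))) (le_normalizer_pResidualOf_of nE))
  have nC : A ≤ 𝐍[𝐂[(A ⊓ 𝐂[K] : Subgroup G)]] := le_normalizer_centralizer
    (le_normalizer_of_le_centralizer (cA.trans (centralizer_anti inf_le_left)))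
  have eC : ncl K A ≤ 𝐂[(A ⊓ 𝐂[K] : Subgroup G)] := ncl_le (le_centralizer_iff.1 inf_le_right) nC
  set U := V ⊓ 𝐂[(A ⊓ 𝐂[K] : Subgroup G)]
  have nU : ncl K A ≤ 𝐍[U] := le_normalizer_inf (ncl_le h.nK (h.nA.trans le_normalizer)) (eC.trans le_normalizer)
  have w1 : ⁅U, ncl K A⁆ ≤ U := commutator_le_left_of_le_normalizer nU
  have w2 := w1.trans inf_le_left
  have e := commutator_commutator_eq' rE (pV.to_le inf_le_left) nU
  have nW := le_normalizer_commutator (le_normalizer_inf h.nA nC) nE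
  have k : PG p ⁅U, ncl K A⁆ A K := ⟨isEA_of_le w2 h.ea, h.eA, nW, (le_ncl _ _).trans (right_le_normalizer_commutator _ _),
    h.qs, h.cc, fun c => h.nc (pxq pV ((isPGroup_of_isElementaryAbelian h.eA).to_le inf_le_left) r (inf_le_left.trans h.nA) h.nK
      inf_le_right ((le_ncl K A).trans (le_centralizer_of_stabilizes rE (pV.to_le w2) le_rfl
        (ncl_le c (le_normalizer_centralizer nW)))))⟩
  have c1 : A ⊓ 𝐂[K] ≤ 𝐂[⁅U, ncl K A⁆] := le_centralizer_iff.1 (w1.trans inf_le_right)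
  generalize ⁅U, ncl K A⁆ = W at k e w2 c1
  obtain ⟨t1, -, t2⟩ := H9.timmesfeld k.ea k.nA (IsBestOffenderOn.anti hA w2) le_rfl
  obtain ⟨b, hb, b0⟩ := SetLike.not_le_iff_exists.1 fun c => t2 (fun c => k.nc (qs_le k.qs (le_normalizer_centralizer k.nK)
    (le_centralizer_iff_commutator'.2 c ha) (.inr (k.cc a ha h0)))) (le_centralizer_iff_commutator'.1 c)
  have b1 : b ∉ 𝐂[K] := fun c => b0 (c1 ⟨hb.1, c⟩)
  by_cases hp : p = 2
  · subst hp; exact k.two (IsBestOffenderOn.anti hA w2) c1 e.ge ha h0 t1 hb b1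
  · exact k.odd_norm hp ha h0 hb.1 hb.2 (k.odd_quad hp hb.1
      (centralizer_anti (commutator_mono le_rfl (zpowers_le.2 hb.1)) hb.2)) b1

/-- The `P(G,V)`-theorem. -/
theorem pgv [Finite G] [Fact p.Prime] (hV : IsElementaryAbelian p V) (hn : H ≤ 𝐍[V]) (h1 : A ≤ H)
    (eA : IsElementaryAbelian p A) (hA : IsBestOffenderOn p V A) (hK : H10.CompOf K H) (h0 : ¬ K ≤ 𝐂[V]) : A ≤ 𝐍[K] :=
  PG.norm ⟨hV, eA, h1.trans hn, hK.le.trans hn, hK.qs, fun _ ha c => le_centralizer_iff_commutator.2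
    ((hK.conj (le_normalizer (h1 ha))).commutator_eq_bot hK fun e => c (cj_eq_self_iff.1 e)), h0⟩ hA

/-- the action of a representation on the multiplicative copy of the module -/
def repAut {R M : Type*} [CommRing R] [AddCommGroup M] [Module R M] (ρ : Representation R G M) : G →* MulAut (Multiplicative M) where
  toFun g := AddEquiv.toMultiplicative (LinearMap.GeneralLinearGroup.toLinearEquiv (ρ.asGroupHom g)).toAddEquiv
  map_one' := by ext; simp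
  map_mul' g h := by ext; simp

theorem pgv_rep {M : Type*} [AddCommGroup M] [Finite G] [Finite M] [Fact p.Prime] [Module (ZMod p) M]
    (ρ : Representation (ZMod p) G M) (hρ : Function.Injective ρ) (eA : IsElementaryAbelian p A)
    (hP : ∀ B ≤ A, Nat.card B * Nat.card {v : M // ∀ b ∈ B, ρ b v = v} ≤ Nat.card A * Nat.card {v : M // ∀ a ∈ A, ρ a v = v})
    (hK : IsComponent K) : A ≤ 𝐍[K] := by
  let φ := repAut ρ
  have hr := H21.Hol.r_inj φ
  have e : ∀ B : Subgroup G, Nat.card (map (H21.Hol.l φ) ⊤ ⊓ 𝐂[B.map (H21.Hol.r φ)] : Subgroup _) =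
      Nat.card {v : M // ∀ b ∈ B, ρ b v = v} := fun B => (Nat.card_congr (Equiv.ofBijective
        (fun v => ⟨H21.Hol.l φ (.ofAdd v.1), mem_map_of_mem _ trivial, H21.Hol.l_mem_cent_iff.2 v.2⟩)
        ⟨fun v w e => Subtype.ext (H21.Hol.l_inj φ (congrArg Subtype.val e)), by
          rintro ⟨_, ⟨v, hv, rfl⟩, k⟩; exact ⟨⟨v.toAdd, H21.Hol.l_mem_cent_iff.1 k⟩, rfl⟩⟩)).symm
  have eA' := H9.isEA_map eA (H21.Hol.r φ)
  obtain ⟨a1, a2⟩ := isEA_iff.1 eA'
  have := pgv (V := map (H21.Hol.l φ) ⊤) (H9.isEA_map (isEA_iff.2 ⟨fun x _ y _ => mul_comm y x, fun x _ => by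
      rw [← ofAdd_toAdd x, ← ofAdd_nsmul, ← Nat.cast_smul_eq_nsmul (ZMod p), ZMod.natCast_self, zero_smul, ofAdd_zero]⟩) _)
    (H21.Hol.le_norm_top ⊤) (map_mono le_top) eA' ⟨fun B hB => by
      obtain ⟨B, rfl⟩ : ∃ B' : Subgroup G, B'.map (H21.Hol.r φ) = B := ⟨_, map_comap_eq_self (hB.trans (map_le_range _ _))⟩
      rw [e, e, H21.Hol.card_r, H21.Hol.card_r]
      exact hP B ((map_le_map_iff_of_injective hr).1 hB), (le_centralizer_iff_commutator.1 a1).le.trans bot_le,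
      fun a ha => by rw [a2 a ha]; exact one_mem _⟩ ((H10.compOf_top.2 hK).map_of_injective hr) fun c =>
        H10.QS.ne_bot hK.2 (le_bot_iff.1 fun k hk => hρ (by
          ext v; rw [map_one]; exact H21.Hol.le_cent_iff.1 c k hk (.ofAdd v) trivial))
  have := comap_le_normalizer_comap (H21.Hol.r φ) this
  rwa [comap_map_eq_self_of_injective hr, comap_map_eq_self_of_injective hr] at this

end Cfsg.Agent.H24
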